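import Cfsg.Prelude.Def_CaseTheorems
import Cfsg.Agent.Lib.Solvable.Cores
import Mathlib.GroupTheory.FixedPointFree

/-!
# Cores of centralisers of automorphisms
-/

set_option autoImplicit false
set_option linter.unusedSectionVars false

namespace CfsgLib.KnownC.AutPSU.Balance

variable {K : Type*} [Group K]

/-- The fixed points of an automorphism. -/
abbrev fixPts (x : MulAut K) : Subgroup K := MonoidHom.eqLocus x.toMonoidHom (MonoidHom.id K)

theorem conj_apply_aut (n : MulAut K) (k : K) : n * MulAut.conj k * n⁻¹ = MulAut.conj (n k) := by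
  ext y
  simp [MulAut.conj_apply]

theorem conj_mem_centralizer (hinj : Function.Injective (MulAut.conj : K →* MulAut K)) (x : MulAut K) (k : K) :
    MulAut.conj k ∈ Subgroup.centralizer {x} ↔ k ∈ fixPts x := by
  rw [Subgroup.mem_centralizer_singleton_iff]
  show _ ↔ x k = k
  rw [eq_comm (b := x * _), ← mul_inv_eq_iff_eq_mul, conj_apply_aut]
  exact ⟨fun h => hinj h, fun h => by rw [h]⟩

theorem map_mem_fixPts {x n : MulAut K} (hn : n ∈ Subgroup.centralizer {x}) {k : K} (hk : k ∈ fixPts x) :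
    n k ∈ fixPts x := by
  show x (n k) = n k
  rw [← MulAut.mul_apply, ← Subgroup.mem_centralizer_singleton_iff.1 hn, MulAut.mul_apply]
  exact congrArg n hk

/-- The core of the fixed point group is invariant under the centraliser. -/
theorem core_invariant [Finite K] (p : ℕ) {x n : MulAut K} (hn : n ∈ Subgroup.centralizer {x}) {k : K}
    (hk : k ∈ (Cfsg.pPrimeCore p (fixPts x)).map (fixPts x).subtype) :
    n k ∈ (Cfsg.pPrimeCore p (fixPts x)).map (fixPts x).subtype := by
  obtain ⟨l, hl, rfl⟩ := hk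
  have hn' : n⁻¹ ∈ Subgroup.centralizer {x} := inv_mem hn
  let e : fixPts x ≃* fixPts x :=
    { toFun := fun l => ⟨n l, map_mem_fixPts hn l.2⟩
      invFun := fun l => ⟨n⁻¹ (l : K), map_mem_fixPts hn' l.2⟩
      left_inv := fun l => Subtype.ext (n.symm_apply_apply _)
      right_inv := fun l => Subtype.ext (n.apply_symm_apply _)
      map_mul' := fun a b => Subtype.ext (map_mul n _ _) }
  haveI : (Cfsg.pPrimeCore p (fixPts x)).Normal := Cfsg.pPrimeCore_normal p _
  haveI : ((Cfsg.pPrimeCore p (fixPts x)).map e.toMonoidHom).Normal :=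
    (Cfsg.pPrimeCore_normal p _).map _ e.surjective
  have hle : (Cfsg.pPrimeCore p (fixPts x)).map e.toMonoidHom ≤ Cfsg.pPrimeCore p (fixPts x) :=
    CfsgLib.Solvable.Cores.le_pPrimeCore (by
      rw [Subgroup.card_map_of_injective e.injective]
      exact CfsgLib.Solvable.Cores.coprime_card_pPrimeCore p)
  exact ⟨e l, hle ⟨l, hl, rfl⟩, rfl⟩

/-- If the fixed point group has no normal `p'`-subgroup and only `p`-singular automorphisms centralise it, then the
centraliser has no normal `p'`-subgroup. -/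
theorem core_bot [Finite K] (hinj : Function.Injective (MulAut.conj : K →* MulAut K)) {p : ℕ} (x : MulAut K)
    (𝒢 : Subgroup (MulAut K)) (hinn : ∀ k : K, MulAut.conj k ∈ 𝒢) (hD : Cfsg.pPrimeCore p (fixPts x) = ⊥)
    (hfix : ∀ n ∈ Subgroup.centralizer {x}, (orderOf n).Coprime p → (∀ l ∈ fixPts x, n l = l) → n = 1) :
    Cfsg.pPrimeCore p ↥(𝒢 ⊓ Subgroup.centralizer {x}) = ⊥ := by
  set C := 𝒢 ⊓ Subgroup.centralizer {x} with hC
  let ψ : fixPts x →* C :=
    ((MulAut.conj : K →* MulAut K).comp (fixPts x).subtype).codRestrict C fun l =>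
      ⟨hinn l, (conj_mem_centralizer hinj x l).2 l.2⟩
  have hψ : Function.Injective ψ := fun a b h => Subtype.ext (hinj (congrArg Subtype.val h))
  haveI : (Cfsg.pPrimeCore p ↥C).Normal := Cfsg.pPrimeCore_normal p _
  have hcop := CfsgLib.Solvable.Cores.coprime_card_pPrimeCore (G := ↥C) p
  have hcomap : (Cfsg.pPrimeCore p ↥C).comap ψ = ⊥ := by
    refine le_bot_iff.1 ((CfsgLib.Solvable.Cores.le_pPrimeCore (hcop.coprime_dvd_left ?_)).trans hD.le)
    rw [← Subgroup.card_map_of_injective (f := ψ) hψ]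
    exact Subgroup.card_dvd_of_le (Subgroup.map_comap_le ψ _)
  rw [eq_bot_iff]
  intro c hc
  rw [Subgroup.mem_bot, Subtype.ext_iff, OneMemClass.coe_one]
  refine hfix _ c.2.2 ?_ fun l hl => ?_
  · rw [Subgroup.orderOf_coe, ← Subgroup.orderOf_mk c hc]
    exact hcop.coprime_dvd_left (orderOf_dvd_natCard _)
  · have hml : (c : MulAut K) l * l⁻¹ ∈ fixPts x := mul_mem (map_mem_fixPts c.2.2 hl) (inv_mem hl)
    have hmem : (⟨_, hml⟩ : fixPts x) ∈ (Cfsg.pPrimeCore p ↥C).comap ψ := by
      have : ψ ⟨_, hml⟩ = c * (ψ ⟨l, hl⟩ * c⁻¹ * (ψ ⟨l, hl⟩)⁻¹) := Subtype.ext (by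
        show MulAut.conj ((c : MulAut K) l * l⁻¹) = (c : MulAut K) * (MulAut.conj l * (c : MulAut K)⁻¹ * (MulAut.conj l)⁻¹)
        rw [map_mul, map_inv, ← conj_apply_aut]
        group)
      rw [Subgroup.mem_comap, this]
      exact mul_mem hc ((Cfsg.pPrimeCore_normal p _).conj_mem _ (inv_mem hc) _)
    rw [hcomap, Subgroup.mem_bot] at hmem
    exact mul_inv_eq_one.1 (congrArg Subtype.val hmem)

/-- An involutive automorphism of a finite group with trivial centre fixes a nontrivial element. -/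
theorem fixPts_ne_bot [Finite K] [Nontrivial K] (hinj : Function.Injective (MulAut.conj : K →* MulAut K))
    (x : MulAut K) (hx : x * x = 1) : fixPts x ≠ ⊥ := by
  intro h
  have hfpf : MonoidHom.FixedPointFree x.toMonoidHom := fun g hg => by
    have : g ∈ fixPts x := hg
    rwa [h, Subgroup.mem_bot] at this
  have hinv := MonoidHom.FixedPointFree.coe_eq_inv_of_involutive hfpf (fun g => DFunLike.congr_fun hx g)
  obtain ⟨g, hg⟩ := exists_ne (1 : K)
  refine hg (hinj (MulEquiv.ext fun y => ?_))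
  rw [map_one, MulAut.conj_apply, MulAut.one_apply, mul_inv_eq_iff_eq_mul]
  have e : ∀ a, x a = a⁻¹ := fun a => congrFun hinv a
  have := map_mul x g y
  rw [e, e, e, mul_inv_rev] at this
  rw [← inv_inj, mul_inv_rev, mul_inv_rev, this]

end CfsgLib.KnownC.AutPSU.Balance

namespace CfsgLib.KnownC.AutPSU.Balance

variable {K : Type*} [Group K]

/-- Fixed points of order prime to `p` give a nontrivial core. -/
theorem core_ne_bot [Finite K] (hinj : Function.Injective (MulAut.conj : K →* MulAut K)) {p : ℕ} (x : MulAut K)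
    (𝒢 : Subgroup (MulAut K)) (hinn : ∀ k : K, MulAut.conj k ∈ 𝒢) (hne : fixPts x ≠ ⊥)
    (hcop : Nat.Coprime p (Nat.card (fixPts x))) :
    Cfsg.pPrimeCore p ↥(𝒢 ⊓ Subgroup.centralizer {x}) ≠ ⊥ := by
  intro hbot
  set C := 𝒢 ⊓ Subgroup.centralizer {x} with hC
  have hLC : (fixPts x).map MulAut.conj ≤ C := by
    rintro _ ⟨l, hl, rfl⟩
    exact ⟨hinn l, (conj_mem_centralizer hinj x l).2 hl⟩
  let H : Subgroup ↥C := ((fixPts x).map MulAut.conj).subgroupOf C
  haveI : H.Normal := ⟨fun h hh c => by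
    obtain ⟨l, hl, hle⟩ := hh
    refine ⟨(c : MulAut K) l, map_mem_fixPts c.2.2 hl, ?_⟩
    rw [← conj_apply_aut]
    show _ = (c : MulAut K) * (h : MulAut K) * (c : MulAut K)⁻¹
    rw [hle]; rfl⟩
  have hcard : Nat.card H = Nat.card (fixPts x) := by
    rw [Nat.card_congr (Subgroup.subgroupOfEquivOfLe hLC).toEquiv, Subgroup.card_map_of_injective hinj]
  have hH : H = ⊥ := le_bot_iff.1 ((CfsgLib.Solvable.Cores.le_pPrimeCore (by rw [hcard]; exact hcop.symm)).trans hbot.le)
  exact hne (Subgroup.eq_bot_of_card_eq _ (by rw [← hcard, hH, Subgroup.card_bot]))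

/-- Conjugation invariance. -/
theorem core_transport [Finite K] (p : ℕ) (x α : MulAut K) (𝒢 : Subgroup (MulAut K))
    (h : Cfsg.pPrimeCore p ↥(𝒢.map (MulAut.conj α).toMonoidHom ⊓ Subgroup.centralizer {α * x * α⁻¹}) = ⊥) :
    Cfsg.pPrimeCore p ↥(𝒢 ⊓ Subgroup.centralizer {x}) = ⊥ := by
  set C := 𝒢 ⊓ Subgroup.centralizer {x} with hC
  set C' := 𝒢.map (MulAut.conj α).toMonoidHom ⊓ Subgroup.centralizer {α * x * α⁻¹} with hC'
  have hmap : C.map (MulAut.conj α).toMonoidHom = C' := by
    rw [hC, hC', Subgroup.map_inf _ _ _ (MulAut.conj α).injective]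
    congr 1
    ext y
    constructor
    · rintro ⟨c, hc, rfl⟩
      rw [Subgroup.mem_centralizer_singleton_iff]
      show α * c * α⁻¹ * (α * x * α⁻¹) = α * x * α⁻¹ * (α * c * α⁻¹)
      calc _ = α * (c * x) * α⁻¹ := by group
        _ = _ := by rw [Subgroup.mem_centralizer_singleton_iff.1 hc]; group
    · intro hy
      refine ⟨α⁻¹ * y * α, Subgroup.mem_centralizer_singleton_iff.2 ?_, ?_⟩
      · calc α⁻¹ * y * α * x = α⁻¹ * (y * (α * x * α⁻¹)) * α := by group
          _ = _ := by rw [Subgroup.mem_centralizer_singleton_iff.1 hy]; group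
      · show α * (α⁻¹ * y * α) * α⁻¹ = y
        group
  let e : C ≃* C' := (C.equivMapOfInjective _ (MulAut.conj α).injective).trans (MulEquiv.subgroupCongr hmap)
  haveI : ((Cfsg.pPrimeCore p ↥C).map e.toMonoidHom).Normal :=
    (Cfsg.pPrimeCore_normal p _).map _ e.surjective
  have hle : (Cfsg.pPrimeCore p ↥C).map e.toMonoidHom ≤ Cfsg.pPrimeCore p ↥C' :=
    CfsgLib.Solvable.Cores.le_pPrimeCore (by
      rw [Subgroup.card_map_of_injective e.injective]
      exact CfsgLib.Solvable.Cores.coprime_card_pPrimeCore p)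
  rw [h, le_bot_iff, Subgroup.map_eq_bot_iff_of_injective _ e.injective] at hle
  exact hle

theorem fixPts_conj (x α : MulAut K) : fixPts (α * x * α⁻¹) = (fixPts x).map α.toMonoidHom := by
  ext k
  rw [Subgroup.mem_map_equiv]
  show α (x (α.symm k)) = k ↔ x (α.symm k) = α.symm k
  exact ⟨fun h => α.injective (h.trans (α.apply_symm_apply k).symm), fun h => by rw [h, α.apply_symm_apply]⟩

end CfsgLib.KnownC.AutPSU.Balance
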