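import Cfsg.Agent.Lib.KnownC.AutPSU.FieldClass
import Cfsg.Agent.Lib.KnownC.AutPSU.Balance.Core

/-!
# Semilinear automorphisms commuting with elements of `PSU`
-/

set_option autoImplicit false
set_option linter.unusedSectionVars false

namespace CfsgLib.KnownC.AutPSU.Balance

open Matrix CfsgLib.Classical

variable {F : Type*} [Field F] [Fintype F] {n q : ℕ} [hF : Fact (Fintype.card F = q ^ 2)]

local notation "GUn" => Cfsg.GU n F q
local notation "SUn" => Cfsg.SU n F q
local notation "PSUn" => Cfsg.PSU n F q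

/-- A unitary matrix as an endomorphism. -/
def toEnd : GUn →* Module.End F (Fin n → F) where
  toFun g := Matrix.toLin' (umat g)
  map_one' := Matrix.toLin'_one
  map_mul' g h := Matrix.toLin'_mul (umat g) (umat h)

theorem toEnd_apply (g : GUn) (x : Fin n → F) : toEnd g x = umat g *ᵥ x := Matrix.toLin'_apply _ x

theorem toEnd_injective : Function.Injective (toEnd : GUn → Module.End F (Fin n → F)) := fun _ _ h =>
  umat_ext (Matrix.toLin'.injective h)

theorem toEnd_isom {θ : F →+* F} (hθ : ∀ x, θ x = x ^ q) (g : GUn) (x y : Fin n → F) :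
    stdHerm θ n (toEnd g x) (toEnd g y) = stdHerm θ n x y := by
  rw [toEnd_apply, toEnd_apply]
  exact (mem_GU_iff hθ).1 g.2 x y

theorem exists_gu {θ : F →+* F} (hθ : ∀ x, θ x = x ^ q) (hc : IsConjugation θ) (L : Module.End F (Fin n → F))
    (hL : ∀ x y, stdHerm θ n (L x) (L y) = stdHerm θ n x y) : ∃ g : GUn, toEnd g = L := by
  obtain ⟨g, hg⟩ := (stdHerm_isHermitian hc n).exists_of_preserving (stdHerm_sepRight n) L hL
  obtain ⟨g, rfl⟩ := (guEquiv hθ).surjective g
  exact ⟨g, LinearMap.ext fun x => (toEnd_apply g x).trans ((guEquiv_apply hθ g x).symm.trans (hg x))⟩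

theorem exists_su (g : GUn) (hg : LinearMap.det (toEnd g) = 1) : ∃ s : SUn, suToGU n F q s = g := by
  have hdet : (umat g).det = 1 := by rw [← LinearMap.det_toLin']; exact hg
  exact ⟨⟨⟨umat g, hdet⟩, g.2⟩, umat_ext rfl⟩

theorem semiAut_scalar (hn : 1 ≤ n) {g : GUn} {a : F} (h : ∀ x, toEnd g x = a • x) : semiAut g 1 = 1 := by
  obtain ⟨u, hu⟩ := exists_sclU (A := g) hn (Matrix.ext_of_mulVec_single fun j => by
    rw [← toEnd_apply, h, Matrix.smul_mulVec, Matrix.one_mulVec])
  rw [hu, semiAut_sclU]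

theorem semiHom_iterate (B : GUn) (τ : F ≃+* F) (s : SUn) (k : ℕ) :
    (semiHom B τ)^[k] s = semiHom (semiPow B τ k) (τ ^ k) s := by
  induction k with
  | zero => exact (semiHom_one s).symm
  | succ k ih =>
    rw [Function.iterate_succ_apply', ih, semiHom_comp, ← pow_succ']
    rfl

theorem center_scalar (hn : 3 ≤ n) (hs : ¬ (n = 3 ∧ q = 2)) {z : SUn} (hz : z ∈ Subgroup.center SUn) :
    ∃ c : F, smat z = c • (1 : Matrix (Fin n) (Fin n) F) := by
  have h := conj_mk (F := F) (q := q) z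
  rw [(QuotientGroup.eq_one_iff z).2 hz, map_one] at h
  exact (semi_eq_one hn hs h.symm).2

/-- An automorphism fixing the class of `s` fixes `s` up to a scalar. -/
theorem fix_mk (hn : 3 ≤ n) (hs : ¬ (n = 3 ∧ q = 2)) (B : GUn) (τ : F ≃+* F) {s : SUn}
    (hB : semiAut B τ (QuotientGroup.mk s) = QuotientGroup.mk s) :
    ∃ c : F, smat (semiHom B τ s) = c • smat s := by
  rw [semiAut_mk, eq_comm, QuotientGroup.eq] at hB
  obtain ⟨c, hc⟩ := center_scalar hn hs hB
  refine ⟨c, ?_⟩
  have e : smat (semiHom B τ s) = smat s * smat (s⁻¹ * semiHom B τ s) := by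
    show _ = smat (s * (s⁻¹ * semiHom B τ s))
    rw [mul_inv_cancel_left]
  rw [e, hc, Matrix.mul_smul, Matrix.mul_one]

/-- If the scalar is trivial, the semilinear map commutes with `s`. -/
theorem semiVec_comm (B : GUn) (τ : F ≃+* F) {s : SUn} (h : semiHom B τ s = s) (x : Fin n → F) :
    semiVec B τ (smat s *ᵥ x) = smat s *ᵥ semiVec B τ x := by
  rw [← semiHom_mulVec, h]

/-- If the scalar is a fixed scalar, it is a root of unity of order dividing the order of the automorphism. -/
theorem scalar_pow (hn : 3 ≤ n) (hs : ¬ (n = 3 ∧ q = 2)) (B : GUn) (τ : F ≃+* F) {s : SUn} {c : F}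
    (hc : smat (semiHom B τ s) = c • smat s) (hcfix : τ c = c) {k : ℕ} (hk : semiAut B τ ^ k = 1) : c ^ k = 1 := by
  have hj : ∀ j : ℕ, smat ((semiHom B τ)^[j] s) = c ^ j • smat s := fun j => by
    induction j with
    | zero => simp
    | succ j ih =>
      have e : ((smat ((semiHom B τ)^[j] s)).map τ) = c ^ j • (smat s).map τ := by
        rw [ih]
        ext a b
        simp [hcfix]
      rw [Function.iterate_succ_apply', smat_semiHom, e, Matrix.mul_smul, Matrix.smul_mul, ← smat_semiHom, hc,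
        smul_smul, pow_succ]
  have h1 := hj k
  rw [semiAut_pow] at hk
  obtain ⟨hτ, u, hu⟩ := (semi_eq_iff hn hs).1 (hk.trans semiAut_one.symm)
  have e : (semiHom B τ)^[k] s = s := by
    rw [semiHom_iterate, hτ]
    refine suToGU_injective ?_
    rw [suToGU_semiHom, gMap_one, hu, mul_one, sclU_comm, mul_inv_cancel_right]
  rw [e] at h1
  have hs0 : smat s ≠ 0 := fun e0 => by
    have hdet : (smat s).det = 1 := s.1.2
    haveI : Nonempty (Fin n) := ⟨⟨0, by omega⟩⟩
    rw [e0, Matrix.det_zero] at hdet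
    exact zero_ne_one hdet
  exact (smul_left_injective F hs0 (h1.symm.trans (one_smul F _).symm))

theorem smat_mulVec (s : SUn) (x : Fin n → F) : smat s *ᵥ x = toEnd (suToGU n F q s) x :=
  (toEnd_apply (suToGU n F q s) x).symm

theorem zpowers_of_fix (σ τ : F ≃+* F) (hfix : ∀ c, σ c = c → τ c = c) : τ ∈ Subgroup.zpowers σ := by
  let G : Subgroup (F ≃+* F) := Subgroup.zpowers σ
  haveI : Finite (F ≃+* F) := Finite.of_injective (fun g : F ≃+* F => (g : F → F)) DFunLike.coe_injective
  let τ' : F ≃ₐ[FixedPoints.subfield G F] F := AlgEquiv.ofRingEquiv (f := τ)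
    fun z => hfix _ (z.2 ⟨σ, Subgroup.mem_zpowers σ⟩)
  obtain ⟨g, hg⟩ := FixedPoints.toAlgAut_surjective G F τ'
  have hgt : (g : F ≃+* F) = τ := RingEquiv.ext fun x => congrArg (fun f : F ≃ₐ[FixedPoints.subfield G F] F => f x) hg
  exact hgt ▸ g.2

theorem eq_one_of_zpowers {G : Type*} [Group G] [Finite G] {σ τ : G} (h : τ ∈ Subgroup.zpowers σ) {k : ℕ}
    (hk : τ ^ k = 1) (hcop : k.Coprime (orderOf σ)) : τ = 1 := by
  rw [← orderOf_eq_one_iff]
  exact Nat.eq_one_of_dvd_coprimes hcop (orderOf_dvd_of_pow_eq_one hk) (orderOf_dvd_of_mem_zpowers h)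

end CfsgLib.KnownC.AutPSU.Balance
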