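import Cfsg.Agent.Lib.KnownC.AutPSU.Balance.Rigid

/-!
# Such a group consists of scalars
-/

set_option autoImplicit false
set_option linter.unusedSectionVars false

open Module

namespace CfsgLib.KnownC.AutPSU.Balance

open CfsgLib.Classical

variable {F : Type*} [Field F] {θ : F →+* F} {V : Type*} [AddCommGroup V] [Module F V]
  {H : V →ₛₗ[θ] V →ₗ[F] F} {J : V → V} {ε : F} {R : Submonoid (Module.End F V)}

namespace OddGroup

variable (hR : OddGroup H J ε R) (h : RealForm H J ε)
include hR h

theorem fix_aniso [Fintype F] [FiniteDimensional F V] (h3 : 3 ≤ finrank F V) (he : ε = 1) {g : Module.End F V}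
    (hg : g ∈ R) {u : V} (hu : J u = u) (ha : H u u ≠ 0) : ∃ b : F, g u = b • u := by
  have hv := hR.map_real h hg hu
  have hsq : H u (g u) ^ 2 = H u u ^ 2 := hR.rot_false h h3 he hg hu ha
  set v := g u with hvdef
  set a := H u u with hadef
  have hva : H v v = a := hR.isom g hg u u
  obtain ⟨e, he1, hb⟩ : ∃ e : F, e ^ 2 = 1 ∧ H u v = e * a := by
    refine ⟨H u v / a, ?_, (div_mul_cancel₀ _ ha).symm⟩
    rw [div_pow, hsq, div_self (pow_ne_zero _ ha)]
  have heθ : θ e = e := by
    have := congrArg θ hb
    rw [(h.symm_real he hu hv).1, map_mul, h.herm.self_fixed, ← hadef, hb] at this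
    exact (mul_right_cancel₀ ha this).symm
  set d := v - e • u with hddef
  by_cases hd0 : d = 0
  · exact ⟨e, sub_eq_zero.1 hd0⟩
  exfalso
  have hJd : J d = d := by
    rw [hddef, show v - e • u = v + (-e) • u by rw [neg_smul, sub_eq_add_neg],
      h.real_add_smul hv hu (by rw [map_neg, heθ])]
  have hud : H u d = 0 := by rw [hddef, map_sub, map_smul, smul_eq_mul, hb, ← hadef, sub_self]
  have hdd : H d d = 0 := by
    rw [hddef]
    simp only [map_sub, map_smul, map_smulₛₗ, LinearMap.sub_apply, LinearMap.smul_apply, smul_eq_mul, heθ,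
      (h.symm_real he hu hv).2, hb, hva, ← hadef]
    linear_combination (-a) * he1
  obtain ⟨x0, hJx0, hx0⟩ := h.exists_real_pairing hd0
  -- normalise
  have hdu : H d u = 0 := by rw [(h.symm_real he hu hJd).2, hud]
  set x1 := (H d x0)⁻¹ • x0 + (-(H u ((H d x0)⁻¹ • x0) / a)) • u with hx1
  have hJs : J ((H d x0)⁻¹ • x0) = (H d x0)⁻¹ • x0 := by
    rw [h.smul, map_inv₀, (h.symm_real he hJd hJx0).1, hJx0]
  have hJx1 : J x1 = x1 := h.real_add_smul hJs hu (by
    rw [map_neg, map_div₀, (h.symm_real he hu hJs).1, h.herm.self_fixed])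
  have hdx1 : H d x1 = 1 := by
    rw [hx1, map_add, map_smul, map_smul, hdu, smul_eq_mul, smul_zero, add_zero, inv_mul_cancel₀ hx0]
  have hux1 : H u x1 = 0 := by
    rw [hx1, map_add, map_smul _ (-(H u ((H d x0)⁻¹ • x0) / a)) u, ← hadef, smul_eq_mul]
    field_simp
    ring
  set κ := 2 / a with hκ
  set t := (κ - H x1 x1) / 2 with ht
  have htθ : θ t = t := by
    rw [ht, hκ, map_div₀, map_sub, map_div₀, h.two_fixed, h.herm.self_fixed, h.herm.self_fixed]
  set x := x1 + t • d with hxdef
  have hJx : J x = x := h.real_add_smul hJx1 hJd htθ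
  have hdx : H d x = 1 := by rw [hxdef, map_add, map_smul, hdx1, hdd, smul_zero, add_zero]
  have hux : H u x = 0 := by rw [hxdef, map_add, map_smul, hux1, hud, smul_zero, add_zero]
  have hxx : H x x = κ := by
    rw [hxdef]
    simp only [map_add, map_smul, map_smulₛₗ, LinearMap.add_apply, LinearMap.smul_apply, smul_eq_mul, htθ, hdd,
      hdx1, (h.symm_real he hJd hJx1).2, RingHom.id_apply]
    have h2 := h.two
    rw [ht]
    field_simp
    ring
  have hxu : H x u = 0 := by rw [(h.symm_real he hu hJx).2, hux]
  have hxd : H x d = 1 := by rw [(h.symm_real he hJd hJx).2, hdx]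
  set ρ := refl H u * refl H v with hρ
  have hρR : ρ ∈ R := hR.refl_pair h he hg hu ha
  have hve : v = e • u + d := by rw [hddef]; abel
  have hvx : H v x = 1 := by
    have : H v = θ e • H u + H d := by rw [← map_smulₛₗ, ← map_add, ← hve]
    rw [this, LinearMap.add_apply, LinearMap.smul_apply, hux, hdx, smul_zero, zero_add]
  have hxv : H x v = 1 := by rw [(h.symm_real he hv hJx).2, hvx]
  refine hR.orth_false h h3 he hρR hJx (by rw [hxx, hκ]; exact div_ne_zero h.two ha) ?_
  simp only [hρ, Module.End.mul_apply, refl_apply, map_sub, map_smul, smul_eq_mul, hvx, hxv, hxu, hux, hxx, hva,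
    hb, ← hadef]
  rw [hκ]
  field_simp
  ring

theorem plane_false [FiniteDimensional F V] (h3 : 3 ≤ finrank F V) {r : ℕ} (hr : Odd r) (hr0 : (r : F) = 0)
    (he : ε = -1) {g : Module.End F V} (hg : g ∈ R) {u : V} (hu : J u = u) : H u (g u) = 0 := by
  by_contra hne
  have hv := hR.map_real h hg hu
  set v := g u with hvdef
  set c := H u v with hcdef
  have hcθ : θ c = -c := by
    have := h.form_eps hu hv
    rw [← hcdef, he] at this
    linear_combination this
  have hvu : H v u = -c := by rw [← h.form_real hu hv, ← hcdef, hcθ]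
  have huu := h.alt he hu
  have hvv := h.alt he hv
  have hs : c⁻¹ + θ c⁻¹ = 0 := by rw [map_inv₀, hcθ, inv_neg, add_neg_cancel]
  set w := -(3 * c⁻¹) with hwdef
  have hw : w + θ w = 0 := by rw [hwdef, map_neg, map_mul, map_ofNat]; linear_combination (-3 : F) * hs
  set ρ := tv H u (-c⁻¹) * tv H v c⁻¹ with hρ
  have hρR : ρ ∈ R := hR.tv_pair h he hg hu hs
  set G := ρ * (tv H u w * ρ * tv H u (-w)) with hG
  have hGR : G ∈ R := mul_mem hρR (hR.tv_mem he u w hu hw ρ hρR)
  have hGu : G u = (11 : F) • u + (-6 : F) • v := by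
    simp only [hG, hρ, Module.End.mul_apply, tv_apply, map_add, map_smul, smul_eq_mul, huu, hvv, hvu, ← hcdef,
      hwdef]
    match_scalars <;> field_simp <;> ring
  have hGv : G v = (24 : F) • u + (-13 : F) • v := by
    simp only [hG, hρ, Module.End.mul_apply, tv_apply, map_add, map_smul, smul_eq_mul, huu, hvv, hvu, ← hcdef,
      hwdef]
    match_scalars <;> field_simp <;> ring
  have hpow : ∀ j : ℕ, (G ^ j) u = ((-1) ^ j * (1 - 12 * (j : F))) • u + ((-1) ^ j * (6 * (j : F))) • v ∧
      (G ^ j) v = ((-1) ^ j * (-24 * (j : F))) • u + ((-1) ^ j * (1 + 12 * (j : F))) • v := fun j => by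
    induction j with
    | zero => simp
    | succ j ih =>
      constructor
      · rw [pow_succ', Module.End.mul_apply, ih.1, map_add, map_smul, map_smul, hGu, hGv, Nat.cast_succ]
        match_scalars <;> ring
      · rw [pow_succ', Module.End.mul_apply, ih.2, map_add, map_smul, map_smul, hGu, hGv, Nat.cast_succ]
        match_scalars <;> ring
  obtain ⟨x, hx0, hxu, hxv⟩ := h.exists_two_perp h3 u v
  have hGx : G x = x := by
    simp [hG, hρ, Module.End.mul_apply, tv_apply, map_add, map_smul, hxu, hxv]
  obtain ⟨k, hk, a, hka⟩ := hR.odd (G ^ r) (pow_mem hGR r)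
  have hGu' : (G ^ (r * k)) u = (-1 : F) • u := by
    rw [(hpow _).1, Nat.cast_mul, hr0, (hr.mul hk).neg_one_pow]
    simp
  have hGx' : ∀ j : ℕ, (G ^ j) x = x := fun j => by
    induction j with
    | zero => simp
    | succ j ih => rw [pow_succ', Module.End.mul_apply, ih, hGx]
  have e1 : a • u = (-1 : F) • u := by rw [← hka, ← pow_mul, hGu']
  have e2 : a • x = (1 : F) • x := by rw [← hka, ← pow_mul, hGx', one_smul]
  have hu0 : u ≠ 0 := fun e => hne (by rw [hcdef, e]; simp)
  exact h.neg_one_ne ((smul_left_injective F hu0 e1).symm.trans (smul_left_injective F hx0 e2))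

theorem fix_real [FiniteDimensional F V] (h3 : 3 ≤ finrank F V) {r : ℕ} (hr : Odd r) (hr0 : (r : F) = 0)
    (he : ε = -1) {g : Module.End F V} (hg : g ∈ R) {u : V} (hu : J u = u) : ∃ b : F, g u = b • u := by
  by_cases hu0 : u = 0
  · exact ⟨0, by rw [hu0]; simp⟩
  have hv := hR.map_real h hg hu
  have huv := hR.plane_false h h3 hr hr0 he hg hu
  set v := g u with hvdef
  obtain ⟨x0, hJx0, hux0⟩ := h.exists_real_pairing hu0
  obtain ⟨s, hs0, hs⟩ := h.herm.conj.exists_trace_zero
  have key : ∀ y, J y = y → H u y ^ 2 = H v y ^ 2 := fun y hy => by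
    have h1 := hR.plane_false h h3 hr hr0 he (hR.tv_pair h he hg hu hs) hy
    have hvu : H v u = 0 := by rw [← h.form_real hu hv, huv, map_zero]
    have e1 : H y u = -H u y := by
      have := h.form_eps hu hy
      rw [he, h.form_real hu hy] at this
      linear_combination this
    have e2 : H y v = -H v y := by
      have := h.form_eps hv hy
      rw [he, h.form_real hv hy] at this
      linear_combination this
    simp only [Module.End.mul_apply, tv_apply, map_add, map_smul, smul_eq_mul, ← hvdef, e1, e2, huv,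
      h.alt he hy] at h1
    exact mul_left_cancel₀ hs0 (by linear_combination h1 : s * H u y ^ 2 = s * H v y ^ 2)
  have hdiff : ∀ y, J y = y → H v y = H u y ∨ H v y = -H u y := fun y hy =>
    (sq_eq_sq_iff_eq_or_eq_neg.1 (key y hy).symm)
  rcases hdiff x0 hJx0 with hx | hx
  · refine ⟨1, sub_eq_zero.1 (h.eq_zero_of_real fun y hy => ?_)⟩
    rw [← h.herm.symm, one_smul, map_sub, LinearMap.sub_apply]
    rcases hdiff y hy with e | e
    · rw [e, sub_self, map_zero]
    rcases hdiff (x0 + y) (by rw [h.add, hJx0, hy]) with e' | e'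
    · rw [map_add, map_add, hx] at e'
      rw [sub_eq_zero.2 (add_left_cancel e'), map_zero]
    · rw [map_add, map_add, hx, e] at e'
      exact absurd (mul_left_cancel₀ h.two (by linear_combination e' : 2 * H u x0 = 2 * 0)) hux0
  · refine ⟨-1, sub_eq_zero.1 (h.eq_zero_of_real fun y hy => ?_)⟩
    rw [← h.herm.symm, neg_one_smul, map_sub, map_neg, LinearMap.sub_apply, LinearMap.neg_apply, sub_neg_eq_add]
    rcases hdiff y hy with e | e
    swap
    · rw [e, neg_add_cancel, map_zero]
    rcases hdiff (x0 + y) (by rw [h.add, hJx0, hy]) with e' | e'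
    · rw [map_add, map_add, hx, e] at e'
      exact absurd (mul_left_cancel₀ h.two (by linear_combination -e' : 2 * H u x0 = 2 * 0)) hux0
    · rw [map_add, map_add, hx, neg_add] at e'
      rw [add_eq_zero_iff_eq_neg.2 (add_left_cancel e'), map_zero]

end OddGroup

namespace RealForm

variable (h : RealForm H J ε)
include h

theorem exists_aniso_perp_one [FiniteDimensional F V] (h3 : 3 ≤ finrank F V) (he : ε = 1) {u : V} (hu : J u = u)
    (ha : H u u ≠ 0) : ∃ w, J w = w ∧ H w w ≠ 0 ∧ H u w = 0 := by
  by_contra hn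
  push Not at hn
  haveI := h.two
  have hsub : ∀ a b : V, J (a - b) = J a - J b := fun a b => by
    rw [eq_sub_iff_add_eq, ← h.add, sub_add_cancel]
  have hq : ∀ x, J x = x → x = ((H u u)⁻¹ * H u x) • u := fun x hx => by
    refine sub_eq_zero.1 (h.eq_zero_of_real fun y hy => ?_)
    let P : V → V := fun y => y - ((H u u)⁻¹ * H u y) • u
    have hPJ : ∀ y, J y = y → J (P y) = P y := fun y hy => by
      rw [hsub, h.smul, hu, hy, map_mul, map_inv₀, h.herm.self_fixed, (h.symm_real he hu hy).1]
    have hPu : ∀ y, H u (P y) = 0 := fun y => by simp [P]; field_simp; ring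
    have hiso : ∀ y, J y = y → H (P y) (P y) = 0 := fun y hy => by
      by_contra h0
      exact hn _ (hPJ y hy) h0 (hPu y)
    have h1 := hiso (x + y) (by rw [h.add, hx, hy])
    have : P (x + y) = P x + P y := by simp only [P, map_add]; module
    rw [this, h.herm.add_self, hiso x hx, hiso y hy, (h.symm_real he (hPJ x hx) (hPJ y hy)).1] at h1
    have h2 : H (P x) (P y) = 0 := mul_left_cancel₀ h.two (by linear_combination h1 : 2 * H (P x) (P y) = 2 * 0)
    rw [show y = P y + ((H u u)⁻¹ * H u y) • u by simp [P], map_add, map_smulₛₗ, LinearMap.add_apply,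
      LinearMap.smul_apply, hPu, smul_zero, add_zero, ← h.symm_real he (hPJ y hy) (hPJ x hx) |>.2]
    exact h2
  obtain ⟨x, hx0, hx, -⟩ := h.exists_two_perp h3 u u
  obtain ⟨y, z, δ, hy, hz, rfl⟩ := h.real_decomp x
  rw [hq y hy, hq z hz, smul_smul, ← add_smul, map_smul, smul_eq_mul, mul_eq_zero] at hx
  rw [hq y hy, hq z hz, smul_smul, ← add_smul, hx.resolve_right ha, zero_smul] at hx0
  exact hx0 rfl

variable (he : ε = 1 ∨ ε = -1)
include he


/-- A semilinear map fixing the lines of the relevant real vectors. -/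
theorem scalar_of_lines [FiniteDimensional F V] (h3 : 3 ≤ finrank F V) (τ : F →+* F) (T : V → V)
    (hadd : ∀ x y, T (x + y) = T x + T y) (hsmul : ∀ (c : F) x, T (c • x) = τ c • T x)
    (hinj : ∀ x, T x = 0 → x = 0)
    (hline : ∀ u, J u = u → (ε = 1 → H u u ≠ 0) → ∃ b : F, T u = b • u) :
    (∀ c, θ c = c → τ c = c) ∧ ∃ a : F, ∀ u, J u = u → T u = a • u := by
  classical
  have hindep : ∀ {u w : V}, u ≠ 0 → (∀ l : F, w ≠ l • u) → ∀ {a b : F}, a • u + b • w = 0 → a = 0 ∧ b = 0 := by
    intro u w hu hw a b hab
    have hb : b = 0 := by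
      by_contra hb
      refine hw (-(b⁻¹ * a)) ?_
      have := congrArg (fun v => b⁻¹ • v) hab
      simp only [smul_add, smul_smul, inv_mul_cancel₀ hb, one_smul, smul_zero] at this
      rw [neg_smul, eq_neg_iff_add_eq_zero, add_comm]
      exact this
    subst hb
    rw [zero_smul, add_zero, smul_eq_zero] at hab
    exact ⟨hab.resolve_right hu, rfl⟩
  have hpair : ∀ {u w : V} {a b : F}, J u = u → J w = w → u ≠ 0 → (∀ l : F, w ≠ l • u) → T u = a • u → T w = b • w →
      ∀ c, θ c = c → (∃ b' : F, T (u + c • w) = b' • (u + c • w)) → τ c * b = a * c := by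
    intro u w a b hu hw hu0 hind hTu hTw c hc ⟨b', hb'⟩
    rw [hadd, hsmul, hTu, hTw] at hb'
    have h0 : (a - b') • u + (τ c * b - b' * c) • w = 0 := by
      rw [smul_add] at hb'
      rw [sub_smul, sub_smul, mul_smul, mul_smul]
      linear_combination (norm := module) hb'
    obtain ⟨e1, e2⟩ := hindep hu0 hind h0
    rw [sub_eq_zero.1 e1]
    linear_combination e2
  rcases he with he | he
  · -- a triple
    have hperp : ∀ {x y : V} (l : F), H x x ≠ 0 → H y y ≠ 0 → H x y = 0 → y ≠ l • x := by
      intro x y l hx hy hxy e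
      rw [e, map_smul, smul_eq_mul, mul_eq_zero] at hxy
      rcases hxy with hl | hl
      · exact hy (by rw [e, hl, zero_smul]; simp)
      · exact hx hl
    have hsum : ∀ {u w : V}, J u = u → J w = w → H u u ≠ 0 → H w w ≠ 0 → H u w = 0 → ∀ {a b : F}, T u = a • u →
        T w = b • w → ∀ c, θ c = c → c ≠ 0 → τ c * b = a * c := by
      intro u w hu hw ha hb huw a b hTu hTw c hc hc0
      have hu0 : u ≠ 0 := fun e => ha (by rw [e]; simp)
      have hJ := h.real_add_smul hu hw hc
      by_cases hQ : H (u + c • w) (u + c • w) = 0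
      swap
      · exact hpair hu hw hu0 (fun l => hperp l ha hb huw) hTu hTw c hc (hline _ hJ fun _ => hQ)
      obtain ⟨z, hJz, hzz, huz, hwz⟩ := h.exists_aniso_perp h3 he hu hw ha hb huw
      obtain ⟨f, hf⟩ := hline z hJz fun _ => hzz
      have hzu : H z u = 0 := by rw [(h.symm_real he hu hJz).2, huz]
      have hzw : H z w = 0 := by rw [(h.symm_real he hw hJz).2, hwz]
      obtain ⟨b', hb'⟩ := hline (u + c • w + z) (by rw [h.add, hJ, hJz]) fun _ => by
        rw [h.herm.add_self, hQ]
        simp [huz, hwz, map_smulₛₗ, hzz]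
      rw [hadd, hadd, hsmul, hTu, hTw, hf] at hb'
      have e1 := congrArg (H u) hb'
      have e2 := congrArg (H w) hb'
      have hwu : H w u = 0 := by rw [(h.symm_real he hu hw).2, huw]
      simp [huw, huz, hwz, hwu] at e1 e2
      have e1' : a = b' := e1.resolve_right ha
      have e2' : τ c * b * H w w = b' * c * H w w := by linear_combination e2
      rw [e1']
      exact mul_right_cancel₀ hb e2'
    obtain ⟨u, hu, ha⟩ := h.exists_aniso h3 he
    obtain ⟨w, hw, hb, huw⟩ := h.exists_aniso_perp_one h3 he hu ha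
    obtain ⟨a, hTu⟩ := hline u hu fun _ => ha
    obtain ⟨b, hTw⟩ := hline w hw fun _ => hb
    have hu0 : u ≠ 0 := fun e => ha (by rw [e]; simp)
    have ha0 : a ≠ 0 := fun e => hu0 (hinj u (by rw [hTu, e, zero_smul]))
    have hab : b = a := by
      have := hsum hu hw ha hb huw hTu hTw 1 (map_one θ) one_ne_zero
      rwa [map_one, one_mul, mul_one] at this
    have hτ : ∀ c, θ c = c → τ c = c := fun c hc => by
      by_cases hc0 : c = 0
      · rw [hc0, map_zero]
      · have := hsum hu hw ha hb huw hTu hTw c hc hc0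
        rw [hab, mul_comm a] at this
        exact mul_right_cancel₀ ha0 this
    -- orthogonal anisotropic vectors have equal multipliers, hence all
    have horth : ∀ {x y : V} {c d : F}, J x = x → J y = y → H x x ≠ 0 → H y y ≠ 0 → H x y = 0 → T x = c • x →
        T y = d • y → d = c := fun hx hy hxx hyy hxy hTx hTy => by
      have := hsum hx hy hxx hyy hxy hTx hTy 1 (map_one θ) one_ne_zero
      rwa [map_one, one_mul, mul_one] at this
    have haniso : ∀ x, J x = x → H x x ≠ 0 → T x = a • x := by
      intro x hx hxx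
      obtain ⟨d, hd⟩ := hline x hx fun _ => hxx
      by_cases hx1 : H u x = 0
      · rw [hd, horth hu hx ha hxx hx1 hTu hd]
      by_cases hdet : H u u * H x x = H u x ^ 2
      · by_cases hQ : H (u + x) (u + x) = 0
        · by_cases hprop : ∃ l : F, x = l • u
          · obtain ⟨l, rfl⟩ := hprop
            have hlθ : θ l = l := by
              have := (h.symm_real he hu hx).1
              rw [map_smul, smul_eq_mul, map_mul, h.herm.self_fixed] at this
              exact mul_right_cancel₀ ha this
            rw [hsmul, hτ l hlθ, hTu, smul_comm]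
          push Not at hprop
          have := hpair hu hx hu0 hprop hTu hd (-1) (by rw [map_neg, map_one]) (hline _
            (h.real_add_smul hu hx (by rw [map_neg, map_one])) fun _ h0 => hx1 (by
              rw [neg_one_smul, ← sub_eq_add_neg] at h0
              simp only [map_sub, LinearMap.sub_apply, (h.symm_real he hu hx).2] at h0
              rw [h.herm.add_self, (h.symm_real he hu hx).1] at hQ
              have h4 : (4 : F) * H u x = 0 := by linear_combination hQ - h0
              rcases mul_eq_zero.1 h4 with h5 | h5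
              · exact absurd (mul_self_eq_zero.1 (show (2 : F) * 2 = 0 by linear_combination h5)) h.two
              · exact h5))
          rw [map_neg, map_one, neg_one_mul, mul_neg_one] at this
          rw [hd, neg_injective this]
        · by_cases hprop : ∃ l : F, x = l • u
          · obtain ⟨l, rfl⟩ := hprop
            have hlθ : θ l = l := by
              have := (h.symm_real he hu hx).1
              rw [map_smul, smul_eq_mul, map_mul, h.herm.self_fixed] at this
              exact mul_right_cancel₀ ha this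
            rw [hsmul, hτ l hlθ, hTu, smul_comm]
          push Not at hprop
          have := hpair hu hx hu0 hprop hTu hd 1 (map_one θ) (hline _
            (h.real_add_smul hu hx (map_one θ)) fun _ => by rwa [one_smul])
          rw [map_one, one_mul, mul_one] at this
          rw [hd, this]
      -- through the orthogonal projection
      set y := x + (-(H u x / H u u)) • u with hy
      have hJy : J y = y := h.real_add_smul hx hu (by
        rw [map_neg, map_div₀, (h.symm_real he hu hx).1, h.herm.self_fixed])
      have huy : H u y = 0 := by rw [hy, map_add, map_smul, smul_eq_mul]; field_simp; ring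
      have hyy : H y y ≠ 0 := by
        intro h0
        refine hdet ?_
        rw [hy] at h0
        simp only [map_add, map_smulₛₗ, LinearMap.add_apply, LinearMap.smul_apply, smul_eq_mul, RingHom.id_apply,
          map_neg, map_div₀, (h.symm_real he hu hx).1, (h.symm_real he hu hx).2, h.herm.self_fixed] at h0
        field_simp at h0
        linear_combination h0
      obtain ⟨c, hc⟩ := hline y hJy fun _ => hyy
      have hxy : x = y + (H u x / H u u) • u := by rw [hy]; module
      have hT : T (y + (H u x / H u u) • u) = a • (y + (H u x / H u u) • u) := by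
        rw [hadd, hsmul, hτ _ (by rw [map_div₀, (h.symm_real he hu hx).1, h.herm.self_fixed]), hTu, hc,
          horth hu hJy ha hyy huy hTu hc]
        module
      rwa [← hxy] at hT
    refine ⟨hτ, a, fun x hx => ?_⟩
    by_cases hxx : H x x = 0
    swap
    · exact haniso x hx hxx
    -- an isotropic vector is a difference of two anisotropic ones
    obtain ⟨l, hl, hl0⟩ : ∃ l : F, θ l = l ∧ H (x + l • u) (x + l • u) ≠ 0 := by
      by_contra hn
      push Not at hn
      have h1 := hn 1 (map_one θ)
      have h2 := hn (-1) (by rw [map_neg, map_one])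
      simp [map_add, map_smulₛₗ, hxx, (h.symm_real he hu hx).2] at h1 h2
      exact mul_ne_zero h.two ha (by linear_combination h1 + h2)
    have h1 := haniso _ (h.real_add_smul hx hu hl) hl0
    rw [hadd, hsmul, hτ l hl, hTu, smul_add, smul_comm l a] at h1
    exact add_right_cancel h1
  · have hreal : ∀ x, J x = x → ∃ b : F, T x = b • x := fun x hx =>
      hline x hx fun e => absurd (he.symm.trans e) h.neg_one_ne
    haveI : Nontrivial V := Module.finrank_pos_iff.1 (by omega : 0 < finrank F V)
    obtain ⟨x, hx⟩ := exists_ne (0 : V)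
    obtain ⟨u, hu, hu0⟩ : ∃ u, J u = u ∧ u ≠ 0 := by
      by_contra hn
      push Not at hn
      obtain ⟨y, z, δ, hy, hz, rfl⟩ := h.real_decomp x
      exact hx (by rw [hn y hy, hn z hz, smul_zero, add_zero])
    obtain ⟨w, hw, hwu⟩ := h.exists_real_pairing hu0
    have hind : ∀ l : F, w ≠ l • u := fun l e => hwu (by rw [e, map_smul, h.alt he hu, smul_zero])
    obtain ⟨a, hTu⟩ := hreal u hu
    obtain ⟨b, hTw⟩ := hreal w hw
    have ha0 : a ≠ 0 := fun e => hu0 (hinj u (by rw [hTu, e, zero_smul]))
    have hone : ∀ {x y : V} {c d : F}, J x = x → J y = y → x ≠ 0 → (∀ l : F, y ≠ l • x) → T x = c • x → T y = d • y →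
        ∀ l, θ l = l → τ l * d = c * l := fun hx hy hx0 hxy hTx hTy l hl =>
      hpair hx hy hx0 hxy hTx hTy l hl (hreal _ (h.real_add_smul hx hy hl))
    have hab : b = a := by
      have := hone hu hw hu0 hind hTu hTw 1 (map_one θ)
      rwa [map_one, one_mul, mul_one] at this
    have hτ : ∀ c, θ c = c → τ c = c := fun c hc => by
      have := hone hu hw hu0 hind hTu hTw c hc
      rw [hab, mul_comm a] at this
      exact mul_right_cancel₀ ha0 this
    refine ⟨hτ, a, fun y hy => ?_⟩
    obtain ⟨d, hd⟩ := hreal y hy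
    by_cases hy0 : y = 0
    · rw [hd, hy0, smul_zero, smul_zero]
    by_cases hyu : ∀ l : F, y ≠ l • u
    · have := hone hu hy hu0 hyu hTu hd 1 (map_one θ)
      rw [map_one, one_mul, mul_one] at this
      rw [hd, this]
    push Not at hyu
    obtain ⟨l, rfl⟩ := hyu
    have hl : θ l = l := by
      rw [h.smul, hu] at hy
      exact smul_left_injective F hu0 hy
    rw [hsmul, hτ l hl, hTu, smul_comm]

end RealForm

namespace OddGroup

/-- The group consists of scalars. -/
theorem scalar [Fintype F] [FiniteDimensional F V] (hR : OddGroup H J ε R) (h : RealForm H J ε) (he : ε = 1 ∨ ε = -1)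
    (h3 : 3 ≤ finrank F V) {r : ℕ} (hr : Odd r) (hr0 : (r : F) = 0) {g : Module.End F V} (hg : g ∈ R) :
    ∃ a : F, ∀ x, g x = a • x := by
  obtain ⟨g', -, -, e2⟩ := hR.apply_inv h hg
  obtain ⟨-, a, ha⟩ := h.scalar_of_lines he h3 (RingHom.id F) g (map_add g) (fun c x => map_smul g c x)
    (fun x hx => by rw [← e2 x, hx, map_zero]) fun u hu hua => by
      rcases he with he | he
      · exact hR.fix_aniso h h3 he hg hu (hua he)
      · exact hR.fix_real h h3 hr hr0 he hg hu
  exact ⟨a, h.scalar_of_real ha⟩

end OddGroup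

end CfsgLib.KnownC.AutPSU.Balance
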