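import Cfsg.Agent.Lib.KnownC.AutPSU.Balance.Common
import Cfsg.Agent.Lib.Classical.PSU32
import Cfsg.Agent.S0283
import Mathlib.GroupTheory.Perm.Fin

/-!
# The centraliser of a field automorphism of `PSU_n(q)`
-/

set_option autoImplicit false
set_option linter.unusedSectionVars false

namespace CfsgLib.KnownC.AutPSU.Balance

open Matrix CfsgLib.Classical

variable {F : Type*} [Field F] [Fintype F] {n q : ℕ} [hF : Fact (Fintype.card F = q ^ 2)]

local notation "GUn" => Cfsg.GU n F q
local notation "SUn" => Cfsg.SU n F q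
local notation "PSUn" => Cfsg.PSU n F q
local notation "Vn" => Fin n → F

/-- A unitary transvection whose class is fixed has its axis fixed. -/
theorem tv_line (hn : 3 ≤ n) (hs : ¬ (n = 3 ∧ q = 2)) {θ : F →+* F} (B : GUn) (τ : F ≃+* F) {v : Vn} {δ : F}
    (hv : stdHerm θ n v v = 0) (hδ : δ ≠ 0) {x : Vn} (hx : stdHerm θ n v x ≠ 0) {s : SUn}
    (hs' : ∀ y, toEnd (suToGU n F q s) y = y + (δ * stdHerm θ n v y) • v)
    (hfix : semiAut B τ (QuotientGroup.mk s) = QuotientGroup.mk s) :
    ∃ b : F, semiVec B τ v = b • v := by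
  obtain ⟨c, hc⟩ := fix_mk hn hs B τ hfix
  set g := suToGU n F q s with hg
  have hsv : ∀ y, semiVec B τ (toEnd g y) = c • toEnd g (semiVec B τ y) := fun y => by
    rw [← smat_mulVec, ← smat_mulVec, ← semiHom_mulVec, hc, Matrix.smul_mulVec]
  have hv0 : v ≠ 0 := fun e => hx (by rw [e]; simp)
  set w := semiVec B τ v with hwdef
  have hw0 : w ≠ 0 := fun e => by
    have h1 := congrArg (semiVec (gMap τ⁻¹ B⁻¹) τ⁻¹) e
    simp only [hwdef, semiVec, umat_gMap] at h1
    refine hv0 ?_
    have h2 : Function.Injective (fun y : Vn => semiVec B τ y) :=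
      (Finite.injective_iff_surjective).2 (semiVec_surjective B τ)
    refine h2 (?_ : semiVec B τ v = semiVec B τ 0)
    rw [← hwdef, e, semiVec, show (fun i => τ ((0 : Vn) i)) = 0 from funext fun i => map_zero τ, Matrix.mulVec_zero]
  have hfixu : toEnd g v = v := by rw [hs', hv, mul_zero, zero_smul, add_zero]
  have e1 : toEnd g w = c⁻¹ • w := by
    have := hsv v
    rw [hfixu, ← hwdef] at this
    have hc0 : c ≠ 0 := fun e => hw0 (by rw [this, e, zero_smul])
    rw [this, inv_smul_smul₀ hc0, ← this]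
  have e2 := hs' w
  rw [e1] at e2
  have e3 := congrArg (toEnd g) e2
  rw [map_smul, e1, map_add, map_smul, hfixu, e1] at e3
  have hc1 : c = 1 := by
    have h4 : (c⁻¹ - 1) • ((c⁻¹ - 1) • w) = 0 := by
      linear_combination (norm := module) e3 - e2
    rcases smul_eq_zero.1 h4 with h5 | h5
    · exact inv_eq_one.1 (sub_eq_zero.1 h5)
    · rcases smul_eq_zero.1 h5 with h6 | h6
      · exact inv_eq_one.1 (sub_eq_zero.1 h6)
      · exact absurd h6 hw0
  have e4 := hsv x
  rw [hc1, one_smul, hs', hs', semiVec_add, semiVec_smul, add_right_inj, ← hwdef] at e4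
  refine ⟨(τ (δ * stdHerm θ n v x))⁻¹ * (δ * stdHerm θ n v (semiVec B τ x)), ?_⟩
  rw [mul_smul, ← e4, inv_smul_smul₀ ((map_ne_zero τ).2 (mul_ne_zero hδ hx))]

omit hF in
/-- Central elements of `SU` are scalar. -/
theorem center_su_scalar {F : Type*} [Field F] [Fintype F] {q : ℕ} (hF : Fintype.card F = q ^ 2) (hn : 2 ≤ n)
    {z : Cfsg.SU n F q} (hz : z ∈ Subgroup.center (Cfsg.SU n F q)) :
    ∃ c : F, ((z : Matrix.SpecialLinearGroup (Fin n) F) : Matrix (Fin n) (Fin n) F) = c • 1 :=
  scalar_of_commute hF hn _ fun g hg hd => by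
    let t : Cfsg.SU n F q := ⟨⟨(g : Matrix (Fin n) (Fin n) F), congrArg Units.val hd⟩, hg⟩
    exact congrArg (fun x : Cfsg.SU n F q => ((x : Matrix.SpecialLinearGroup (Fin n) F) : Matrix (Fin n) (Fin n) F))
      (Subgroup.mem_center_iff.1 hz t).symm

/-- The permutation matrix of a permutation, as a unitary element. -/
theorem exists_perm_su (π : Equiv.Perm (Fin n)) (hπ : Equiv.Perm.sign π = 1) :
    ∃ s : SUn, ∀ x, smat s *ᵥ x = x ∘ π := by
  obtain ⟨θ, hθ, hc⟩ := exists_frob hF.out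
  obtain ⟨g, hg⟩ := exists_gu hθ hc (LinearMap.funLeft F F π) fun x y => by
    rw [stdHerm_apply, stdHerm_apply]
    exact Equiv.sum_comp π fun i => θ (x i) * y i
  have e : toEnd g = Matrix.toLin' (π.permMatrix F) := by
    rw [hg]
    refine LinearMap.ext fun x => ?_
    rw [Matrix.toLin'_apply, Matrix.permMatrix_mulVec]
    rfl
  obtain ⟨s, hs⟩ := exists_su g (by rw [e, LinearMap.det_toLin', Matrix.det_permutation, hπ]; simp)
  refine ⟨s, fun x => ?_⟩
  rw [smat_mulVec, hs, hg]
  rfl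

variable {F₀ : Type*} [Field F₀] [Fintype F₀] {q₀ : ℕ} [hF₀ : Fact (Fintype.card F₀ = q₀ ^ 2)]
  (ι : F₀ →+* F) [hι : Fact (∀ x, ι x ^ q = ι (x ^ q₀))]

local notation "SU₀" => Cfsg.SU n F₀ q₀

include hF₀ hι

/-- Base change. -/
noncomputable def baseSU : Cfsg.SU n F₀ q₀ →* Cfsg.SU n F q where
  toFun s := ⟨⟨(smat s).map ι, (ι.map_det (smat s)).symm.trans (by
      rw [show (smat s).det = 1 from s.1.2, map_one])⟩,
    (baseU (q := q) ι (suToGU n F₀ q₀ s) : Cfsg.GU n F q).2⟩
  map_one' := smat_ext (Matrix.map_one _ (map_zero ι) (map_one ι))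
  map_mul' s t := smat_ext Matrix.map_mul

theorem suToGU_baseSU (s : SU₀) : suToGU n F q (baseSU ι s) = baseU ι (suToGU n F₀ q₀ s) := umat_ext rfl

theorem smat_baseSU (s : SU₀) : smat (baseSU (q := q) ι s : SUn) = (smat s).map ι := rfl

theorem baseSU_mulVec (s : SU₀) (x : Fin n → F₀) :
    smat (baseSU (q := q) ι s : SUn) *ᵥ (fun i => ι (x i)) = fun i => ι ((smat s *ᵥ x) i) := by
  rw [smat_baseSU]
  funext i
  exact (RingHom.map_mulVec ι (smat s) x i).symm

variable (σ : F ≃+* F)

theorem semiHom_baseSU (hfix : ∀ x, σ x = x ↔ x ∈ Set.range ι) (s : SU₀) :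
    semiHom (1 : GUn) σ (baseSU ι s) = baseSU ι s := suToGU_injective (by
  rw [suToGU_semiHom, one_mul, inv_one, mul_one, suToGU_baseSU, gMap_baseU ι σ hfix])

theorem exists_su_pre (hfix : ∀ x, σ x = x ↔ x ∈ Set.range ι) (s : SUn) (hs : semiHom (1 : GUn) σ s = s) :
    ∃ s₀ : SU₀, baseSU ι s₀ = s := by
  obtain ⟨B, hB⟩ := exists_gu_pre (q₀ := q₀) ι σ hfix (suToGU n F q s) (by
    conv_rhs => rw [← hs]
    rw [suToGU_semiHom, one_mul, inv_one, mul_one])
  have hdet : (umat B).det = 1 := ι.injective (by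
    rw [ι.map_det, map_one]
    show ((umat B).map ι).det = 1
    rw [← umat_baseU (q := q), hB]
    exact s.1.2)
  exact ⟨⟨⟨umat B, hdet⟩, B.2⟩, suToGU_injective (by
    rw [suToGU_baseSU, ← hB]
    exact congrArg _ (Subtype.ext (Units.ext rfl)))⟩

/-- The image of `SU_n(q₀)` in the fixed points of the field automorphism. -/
noncomputable def baseP (hfix : ∀ x, σ x = x ↔ x ∈ Set.range ι) :
    Cfsg.SU n F₀ q₀ →* fixPts (semiAut (1 : Cfsg.GU n F q) σ) :=
  ((QuotientGroup.mk' (Subgroup.center (Cfsg.SU n F q))).comp (baseSU ι)).codRestrict _ fun s => by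
    show semiAut (1 : GUn) σ (QuotientGroup.mk (baseSU ι s)) = _
    rw [semiAut_mk, semiHom_baseSU ι σ hfix]
    rfl

theorem baseP_val (hfix : ∀ x, σ x = x ↔ x ∈ Set.range ι) (s : SU₀) :
    ((baseP (q := q) ι σ hfix s : fixPts (semiAut (1 : GUn) σ)) : PSUn) = QuotientGroup.mk (baseSU (q := q) ι s) := rfl

theorem baseP_eq_one_iff (hn : 3 ≤ n) (hs : ¬ (n = 3 ∧ q = 2)) (hfix : ∀ x, σ x = x ↔ x ∈ Set.range ι) (s : SU₀) :
    baseP (q := q) ι σ hfix s = 1 ↔ s ∈ Subgroup.center SU₀ := by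
  rw [Subtype.ext_iff, OneMemClass.coe_one, baseP_val, QuotientGroup.eq_one_iff]
  constructor
  · intro h
    obtain ⟨c, hc⟩ := center_scalar hn hs h
    have hs0 : smat s = (smat s ⟨0, by omega⟩ ⟨0, by omega⟩) • (1 : Matrix (Fin n) (Fin n) F₀) := by
      have h0 := congrFun (congrFun hc ⟨0, by omega⟩) ⟨0, by omega⟩
      simp [smat_baseSU] at h0
      refine Matrix.map_injective ι.injective ?_
      show (smat s).map ι = _
      rw [← smat_baseSU (q := q), hc, ← h0]
      ext i j
      rcases eq_or_ne i j with rfl | hij <;> simp [*]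
    refine Subgroup.mem_center_iff.2 fun t => smat_ext ?_
    show smat t * smat s = smat s * smat t
    rw [hs0, Matrix.mul_smul, Matrix.smul_mul, Matrix.mul_one, Matrix.one_mul]
  · intro h
    obtain ⟨c, hc⟩ := center_su_scalar hF₀.out (by omega) h
    refine Subgroup.mem_center_iff.2 fun t => smat_ext ?_
    show smat t * smat (baseSU (q := q) ι s : SUn) = smat (baseSU (q := q) ι s : SUn) * smat t
    have e : smat (baseSU (q := q) ι s : SUn) = ι c • (1 : Matrix (Fin n) (Fin n) F) := by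
      rw [smat_baseSU, show smat s = _ from hc]
      ext i j
      rcases eq_or_ne i j with rfl | hij <;> simp [*]
    rw [e, Matrix.mul_smul, Matrix.smul_mul, Matrix.mul_one, Matrix.one_mul]

theorem exists_tv_su (hfix : ∀ x, σ x = x ↔ x ∈ Set.range ι) {θ : F →+* F} (hθ : ∀ x, θ x = x ^ q)
    (hc : IsConjugation θ) {v : Vn} {δ : F} (hv : stdHerm θ n v v = 0) (hδ : δ + θ δ = 0)
    (hvσ : ∀ i, σ (v i) = v i) (hδσ : σ δ = δ) :
    ∃ s₀ : SU₀, ∀ y, toEnd (suToGU n F q (baseSU ι s₀)) y = y + (δ * stdHerm θ n v y) • v := by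
  obtain ⟨g, hg⟩ := (stdHerm_isHermitian hc n).exists_uTv (stdHerm_sepRight n) hv hδ
  have hdet : idet _ g = 1 := (stdHerm_isHermitian hc n).idet_uTv hg
  obtain ⟨G, rfl⟩ := (guEquiv hθ).surjective g
  rw [idet_guEquiv] at hdet
  have hGy : ∀ y, toEnd G y = y + (δ * stdHerm θ n v y) • v := fun y => by
    rw [toEnd_apply, ← guEquiv_apply hθ]
    exact hg.2.2 y
  obtain ⟨s, hs⟩ := exists_su G (by rw [show toEnd G = Matrix.toLin' (umat G) from rfl, LinearMap.det_toLin']; exact hdet)
  obtain ⟨s₀, hs₀⟩ := exists_su_pre (q₀ := q₀) ι σ hfix s (suToGU_injective (toEnd_injective (LinearMap.ext fun y => by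
    rw [suToGU_semiHom, one_mul, inv_one, mul_one, hs]
    have hy : y = fun i => σ (σ.symm (y i)) := funext fun i => (σ.apply_symm_apply _).symm
    rw [hy, toEnd_apply, umat_gMap]
    funext i
    rw [show (((umat G).map σ) *ᵥ fun i => σ (σ.symm (y i))) i = σ ((umat G *ᵥ fun i => σ.symm (y i)) i) from
      (RingHom.map_mulVec σ.toRingHom (umat G) (fun i => σ.symm (y i)) i).symm, ← toEnd_apply, hGy, hGy]
    simp only [Pi.add_apply, Pi.smul_apply, smul_eq_mul, map_add, map_mul, hδσ, hvσ]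
    congr 3
    rw [stdHerm_apply, stdHerm_apply, map_sum]
    exact Finset.sum_congr rfl fun j _ => by rw [map_mul, hθ, map_pow, hvσ])))
  exact ⟨s₀, fun y => by rw [hs₀, hs]; exact hGy y⟩

/-- Automorphisms of order prime to `p` centralising the rational points. -/
theorem field_fix (hn : 3 ≤ n) (hs : ¬ (n = 3 ∧ q = 2)) (hfix : ∀ x, σ x = x ↔ x ∈ Set.range ι) {p : ℕ}
    (hσ : orderOf σ = p) (m : MulAut PSUn) (hm : (orderOf m).Coprime p)
    (hmfix : ∀ s : SU₀, m (baseP (q := q) ι σ hfix s) = baseP (q := q) ι σ hfix s) : m = 1 := by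
  classical
  obtain ⟨B, τ, rfl⟩ := exists_semi hn hs m
  obtain ⟨θ, hθ, hc⟩ := exists_frob hF.out
  obtain ⟨θ₀, hθ₀, hc₀⟩ := exists_frob hF₀.out
  have hθι : ∀ x, θ (ι x) = ι (θ₀ x) := fun x => by rw [hθ, hθ₀, hι.out]
  obtain ⟨δ₀, hδ0, hδ⟩ := hc₀.exists_trace_zero
  obtain ⟨μ, hμ⟩ := hc₀.exists_norm_eq (a := (-1 : F₀)) (by rw [map_neg, map_one])
  haveI : Nonempty (Fin n) := ⟨⟨0, by omega⟩⟩
  let e : Fin n → Vn := fun i => Pi.single i 1
  have hσe : ∀ (ρ : F ≃+* F) (i k : Fin n), ρ (e i k) = e i k := fun ρ i k => by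
    rcases eq_or_ne k i with rfl | h <;> simp [e, *]
  have hTe : ∀ i, semiVec B τ (e i) = toEnd B (e i) := fun i => by
    rw [semiVec, toEnd_apply, funext (hσe τ i)]
  have line : ∀ i j, i ≠ j → ∀ μ : F₀, μ * θ₀ μ = -1 →
      ∃ b : F, toEnd B (e i) + τ (ι μ) • toEnd B (e j) = b • (e i + ι μ • e j) := by
    intro i j hij μ hμ
    set v := e i + ι μ • e j with hvdef
    have hv : stdHerm θ n v v = 0 := by
      simp only [hvdef, e, map_add, map_smul, map_smulₛₗ, LinearMap.add_apply, LinearMap.smul_apply, smul_eq_mul,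
        stdHerm_single, hθι, Pi.single_eq_same, Pi.single_eq_of_ne hij, Pi.single_eq_of_ne hij.symm]
      have h1 := congrArg ι hμ
      rw [map_mul, map_neg, map_one] at h1
      linear_combination h1
    have hx : stdHerm θ n v (e i) ≠ 0 := by
      simp [hvdef, e, map_add, map_smulₛₗ, stdHerm_single, hij.symm]
    obtain ⟨s₀, hs₀⟩ := exists_tv_su (q₀ := q₀) ι σ hfix hθ hc hv (δ := ι δ₀)
      (by rw [hθι, ← map_add, hδ, map_zero]) (fun k => by
        simp only [hvdef, Pi.add_apply, Pi.smul_apply, smul_eq_mul, map_add, map_mul, hσe,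
          (hfix (ι μ)).2 ⟨μ, rfl⟩]) ((hfix _).2 ⟨δ₀, rfl⟩)
    obtain ⟨b, hb⟩ := tv_line hn hs B τ hv ((map_ne_zero ι).2 hδ0) hx hs₀ (hmfix s₀)
    exact ⟨b, by rw [← hb, hvdef, semiVec_add, semiVec_smul, hTe, hTe]⟩
  -- a second root
  obtain ⟨u, hu1⟩ : ∃ u : NOne F₀ q₀, u ≠ 1 := by
    haveI : Nontrivial (NOne F₀ q₀) := Finite.one_lt_card_iff_nontrivial.1 (by
      rw [card_nOne]; have := two_le_of_card_sq hF₀.out; omega)
    exact exists_ne 1
  have hroot : ∀ u : NOne F₀ q₀, (((u : F₀ˣ) : F₀) * μ) * θ₀ (((u : F₀ˣ) : F₀) * μ) = -1 := fun u => by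
    rw [map_mul, mul_mul_mul_comm, hθ₀ ((u : F₀ˣ) : F₀), nOne_mul u.2, one_mul, hμ]
  have hμ0 : μ ≠ 0 := fun e => by rw [e, zero_mul] at hμ; exact one_ne_zero (neg_eq_zero.1 hμ.symm)
  set μ' := ((u : F₀ˣ) : F₀) * μ with hμ'def
  have hμμ : μ' ≠ μ := fun e => hu1 (Subtype.ext (Units.ext ((mul_eq_right₀ hμ0).1 e)))
  -- the matrix is diagonal
  have hdiag : ∀ j k, k ≠ j → toEnd B (e j) k = 0 := by
    intro j k hkj
    obtain ⟨i, hij, hik⟩ : ∃ i, i ≠ j ∧ i ≠ k := by
      by_contra hcon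
      push Not at hcon
      have : (Finset.univ : Finset (Fin n)) ⊆ {j, k} := fun i _ => by
        by_cases h : i = j
        · simp [h]
        · simp [hcon i h]
      have := (Finset.card_le_card this).trans Finset.card_le_two
      simp at this; omega
    obtain ⟨b, hb⟩ := line i j hij μ hμ
    obtain ⟨b', hb'⟩ := line i j hij μ' (hroot u)
    have h1 := congrFun hb k
    have h2 := congrFun hb' k
    simp [e, Pi.single_eq_of_ne hkj, Pi.single_eq_of_ne hik.symm] at h1 h2
    have h3 : (τ (ι μ') - τ (ι μ)) * toEnd B (e j) k = 0 := by linear_combination h2 - h1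
    exact (mul_eq_zero.1 h3).resolve_left (sub_ne_zero.2 fun e => hμμ (ι.injective (τ.injective e)))
  let d : Fin n → F := fun j => toEnd B (e j) j
  have hd : ∀ i j, i ≠ j → ∀ μ : F₀, μ * θ₀ μ = -1 → τ (ι μ) * d j = d i * ι μ := by
    intro i j hij μ hμ
    obtain ⟨b, hb⟩ := line i j hij μ hμ
    have h1 := congrFun hb i
    have h2 := congrFun hb j
    simp [e, Pi.single_eq_of_ne hij, Pi.single_eq_of_ne hij.symm] at h1 h2
    have e1 : toEnd B (Pi.single j 1) i = 0 := hdiag j i hij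
    have e2 : toEnd B (Pi.single i 1) j = 0 := hdiag i j hij.symm
    simp only [d, e]
    rw [e1, mul_zero, add_zero] at h1
    rw [e2, zero_add] at h2
    rw [h2, h1]
  have hd0 : ∀ j, d j ≠ 0 := fun j h0 => by
    have : toEnd B (e j) = 0 := funext fun k => by
      rcases eq_or_ne k j with rfl | h
      · exact h0
      · exact hdiag j k h
    have h1 := congrArg (toEnd B⁻¹) this
    rw [← Module.End.mul_apply, ← map_mul, inv_mul_cancel, map_one, map_zero] at h1
    simpa [e] using congrFun h1 j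
  obtain ⟨i0, j0, hij0⟩ : ∃ i j : Fin n, i ≠ j := ⟨⟨0, by omega⟩, ⟨1, by omega⟩, by simp⟩
  have hnfix : ∀ u : NOne F₀ q₀, τ (ι ((u : F₀ˣ) : F₀)) = ι ((u : F₀ˣ) : F₀) := fun u => by
    have h1 := hd i0 j0 hij0 μ hμ
    have h2 := hd i0 j0 hij0 _ (hroot u)
    rw [map_mul, map_mul, mul_assoc, h1] at h2
    exact mul_right_cancel₀ (mul_ne_zero (hd0 i0) ((map_ne_zero ι).2 hμ0)) (by linear_combination h2)
  -- the fixed field of `τ` contains the image of `ι`
  have hall : ∀ x, τ (ι x) = ι x := by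
    let K : Subfield F₀ := RingHom.eqLocusField (τ.toRingHom.comp ι) ι
    let f : Option (NOne F₀ q₀) → K := fun o =>
      match o with
      | none => 0
      | some u => ⟨((u : F₀ˣ) : F₀), hnfix u⟩
    have hf : Function.Injective f := by
      rintro (_ | a) (_ | b) h
      · rfl
      · exact absurd (congrArg K.subtype h).symm (Units.ne_zero (b : F₀ˣ))
      · exact absurd (congrArg K.subtype h) (Units.ne_zero (a : F₀ˣ))
      · exact congrArg some (Subtype.ext (Units.ext (congrArg K.subtype h)))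
    have h1 := Nat.card_le_card_of_injective f hf
    rw [Finite.card_option, card_nOne] at h1
    have h2 : Nat.card F₀ = Nat.card K ^ Module.finrank K F₀ := Module.natCard_eq_pow_finrank
    have h3 : Nat.card F₀ = q₀ ^ 2 := by rw [Nat.card_eq_fintype_card, hF₀.out]
    have hd1 : Module.finrank K F₀ = 1 := by
      by_contra hne
      have hpos : 0 < Module.finrank K F₀ := Module.finrank_pos
      have : Nat.card K ^ 2 ≤ q₀ ^ 2 := by
        rw [← h3, h2]
        exact Nat.pow_le_pow_right (by omega) (by omega)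
      have := (Nat.pow_le_pow_iff_left (by norm_num : 2 ≠ 0)).1 this
      omega
    have hbij : Function.Bijective K.subtype := (Nat.bijective_iff_injective_and_card _).2
      ⟨K.subtype.injective, by rw [h2, hd1, pow_one]⟩
    intro x
    obtain ⟨y, rfl⟩ := hbij.2 x
    exact y.2
  have hτ1 : τ = 1 := by
    haveI : Finite (F ≃+* F) := Finite.of_injective (fun g : F ≃+* F => (g : F → F)) DFunLike.coe_injective
    have hτk : τ ^ orderOf (semiAut B τ) = 1 := by
      have h := pow_orderOf_eq_one (semiAut B τ)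
      rw [semiAut_pow] at h
      exact (semi_eq_one hn hs h).1
    refine eq_one_of_zpowers (zpowers_of_fix σ τ fun c hc => ?_) hτk (hσ.symm ▸ hm)
    obtain ⟨y, rfl⟩ := (hfix c).1 hc
    exact hall y
  subst hτ1
  have hde : ∀ i, d i = d i0 := fun i => by
    rcases eq_or_ne i i0 with rfl | h
    · rfl
    have h1 : ι μ * d i0 = d i * ι μ := hd i i0 h μ hμ
    exact (mul_left_cancel₀ ((map_ne_zero ι).2 hμ0) (by linear_combination h1 :
      ι μ * d i0 = ι μ * d i)).symm
  refine semiAut_scalar (by omega) (a := d i0) fun x => ?_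
  have hB : toEnd B = d i0 • LinearMap.id := by
    refine (Pi.basisFun F (Fin n)).ext fun j => funext fun k => ?_
    rw [Pi.basisFun_apply]
    show toEnd B (e j) k = d i0 * e j k
    rcases eq_or_ne k j with rfl | h
    · simp [e, ← hde k, d]
    · rw [hdiag j k h]; simp [e, h]
  rw [hB]; rfl

/-- The prime divides the order of the image of the rational points when it divides that of the fixed points. -/
theorem exists_order_p (hn : 3 ≤ n) (hs : ¬ (n = 3 ∧ q = 2)) (hfix : ∀ x, σ x = x ↔ x ∈ Set.range ι) {p : ℕ}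
    (hp : p.Prime) (hodd : Odd p) (hdiv : p ∣ Nat.card (fixPts (semiAut (1 : GUn) σ))) :
    ∃ s : SU₀, orderOf (baseP (q := q) ι σ hfix s) = p := by
  haveI : Fact p.Prime := ⟨hp⟩
  haveI : Finite PSUn := Finite.of_surjective _ (QuotientGroup.mk'_surjective (Subgroup.center SUn))
  rcases Nat.lt_or_ge n p with hnp | hpn
  · obtain ⟨u, hu⟩ := exists_prime_orderOf_dvd_card' p hdiv
    obtain ⟨s, hsu⟩ := QuotientGroup.mk_surjective (u : PSUn)
    have h1 : semiAut (1 : GUn) σ (QuotientGroup.mk s) = QuotientGroup.mk s := hsu ▸ u.2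
    obtain ⟨c, hc⟩ := fix_mk hn hs _ _ h1
    have hcn : c ^ n = 1 := by
      have := congrArg Matrix.det hc
      rw [Matrix.det_smul, Fintype.card_fin, show (smat (semiHom (1 : GUn) σ s)).det = 1 from
        (semiHom (1 : GUn) σ s).1.2, show (smat s).det = 1 from s.1.2, mul_one] at this
      exact this.symm
    have hpow : ∀ j : ℕ, smat (semiHom (1 : GUn) σ (s ^ j)) = c ^ j • smat (s ^ j) := fun j => by
      induction j with
      | zero => simp
      | succ j ih =>
        rw [map_pow] at ih ⊢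
        rw [pow_succ, pow_succ]
        show smat _ * smat _ = _
        rw [ih, hc, Matrix.smul_mul, Matrix.mul_smul, smul_smul, pow_succ]
        rfl
    obtain ⟨s₀, hs₀⟩ := exists_su_pre (q₀ := q₀) ι σ hfix (s ^ n) (smat_ext (by rw [hpow, hcn, one_smul]))
    refine ⟨s₀, ?_⟩
    have he : baseP (q := q) ι σ hfix s₀ = u ^ n := Subtype.ext (by
      rw [baseP_val, hs₀, SubmonoidClass.coe_pow, ← hsu]
      rfl)
    rw [he, Nat.Coprime.orderOf_pow, hu]
    rw [hu]
    exact (hp.coprime_iff_not_dvd).2 fun h => by have := Nat.le_of_dvd (by omega) h; omega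
  · have hp3 : 3 ≤ p := by
      rcases hodd with ⟨j, rfl⟩
      have := hp.two_le; omega
    let i : Fin n := ⟨p - 1, by omega⟩
    haveI : NeZero n := ⟨by omega⟩
    obtain ⟨s, hs'⟩ := exists_perm_su (F := F₀) (q := q₀) (Fin.cycleRange i) (by
      rw [Fin.sign_cycleRange]
      exact Even.neg_one_pow (Nat.Odd.sub_odd hodd odd_one))
    refine ⟨s, orderOf_eq_prime ?_ fun h => ?_⟩
    · rw [← map_pow]
      refine (baseP_eq_one_iff ι σ hn hs hfix _).2 ?_
      have hpow : ∀ (j : ℕ) (x : Fin n → F₀), smat (s ^ j) *ᵥ x = x ∘ ⇑((Fin.cycleRange i) ^ j) := fun j => by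
        induction j with
        | zero => intro x; rw [pow_zero, pow_zero]; exact Matrix.one_mulVec x
        | succ j ih =>
          intro x
          rw [pow_succ, show smat (s ^ j * s) = smat (s ^ j) * smat s from rfl, ← Matrix.mulVec_mulVec, hs', ih,
            pow_succ']
          rfl
      have hone : s ^ p = 1 := smat_ext (Matrix.ext_of_mulVec_single fun k => by
        rw [hpow]
        have hord : orderOf (Fin.cycleRange i) = p := by
          rw [← Equiv.Perm.lcm_cycleType, Fin.cycleType_cycleRange (by simp [i, Fin.ext_iff]; omega)]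
          simp [i]; omega
        rw [← hord, pow_orderOf_eq_one]
        exact (Matrix.one_mulVec _).symm)
      rw [hone]
      exact one_mem _
    · rw [baseP_eq_one_iff ι σ hn hs hfix] at h
      obtain ⟨c, hc⟩ := center_su_scalar hF₀.out (by omega) h
      have h1 := congrFun (hs' (Pi.single (i := Fin.cycleRange i ⟨0, by omega⟩) (1 : F₀))) ⟨0, by omega⟩
      have hne : Fin.cycleRange i ⟨0, by omega⟩ ≠ ⟨0, by omega⟩ := by
        rw [Fin.cycleRange_of_lt (by simp [i, Fin.lt_def]; omega)]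
        simp [Fin.ext_iff, Fin.val_add, Nat.mod_eq_of_lt (by omega : 1 < n)]
      rw [show smat s = c • (1 : Matrix (Fin n) (Fin n) F₀) from hc, Matrix.smul_mulVec, Matrix.one_mulVec] at h1
      simp only [Pi.smul_apply, Function.comp_apply, Pi.single_eq_same, Pi.single_eq_of_ne hne.symm, smul_zero] at h1
      exact zero_ne_one h1

end CfsgLib.KnownC.AutPSU.Balance
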