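import Cfsg.Agent.Lib.KnownC.AutPSU.Balance.FieldCore
import Mathlib.GroupTheory.Perm.Cycle.Type

/-!
# Local balance for field automorphisms of `PSU_n(q)`
-/

set_option autoImplicit false
set_option linter.unusedSectionVars false

namespace CfsgLib.KnownC.AutPSU.Balance

open Matrix CfsgLib.Classical

/-- In `U₃(2)` a normal subgroup of order prime to three is trivial. -/
theorem psu32_no_core {F : Type*} [Field F] [Fintype F] (hF : Fintype.card F = 4)
    (M : Subgroup (Cfsg.PSU 3 F 2)) [M.Normal] (hM : (Nat.card M).Coprime 3) : M = ⊥ := by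
  classical
  haveI : Fact (Fintype.card F = 2 ^ 2) := ⟨hF⟩
  haveI : Finite (Cfsg.PSU 3 F 2) :=
    Finite.of_surjective _ (QuotientGroup.mk'_surjective (Subgroup.center (Cfsg.SU 3 F 2)))
  obtain ⟨h72, -, N, hNn, hN9, -, ⟨e⟩⟩ := psu32_structure hF
  -- elements of order dividing three lie in the normal subgroup
  have h3N : ∀ g : Cfsg.PSU 3 F 2, g ^ 3 = 1 → g ∈ N := fun g hg => by
    rw [← QuotientGroup.eq_one_iff, ← orderOf_eq_one_iff]
    refine Nat.eq_one_of_dvd_coprimes (a := 3) (b := 8) (by norm_num)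
      (orderOf_dvd_of_pow_eq_one (by rw [← QuotientGroup.mk_pow, hg]; rfl)) ?_
    have h8 : Nat.card (Cfsg.PSU 3 F 2 ⧸ N) = 8 := by
      have := Subgroup.card_eq_card_quotient_mul_card_subgroup N
      rw [h72, hN9] at this
      omega
    exact h8 ▸ orderOf_dvd_natCard _
  by_contra hne
  have hdisj : Disjoint M N := by
    rw [disjoint_iff, Subgroup.inf_eq_bot_of_coprime]
    rw [hN9, show (9 : ℕ) = 3 ^ 2 by norm_num]
    exact hM.pow_right 2
  have h8 : Nat.card M ∣ 2 ^ 3 := by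
    have h := Subgroup.card_subgroup_dvd_card M
    rw [h72, show 72 = 9 * 8 by norm_num] at h
    exact (Nat.Coprime.dvd_of_dvd_mul_left (by rw [show (9 : ℕ) = 3 ^ 2 by norm_num]; exact hM.pow_right 2) h)
  obtain ⟨z, hz⟩ := exists_prime_orderOf_dvd_card' 2 (G := M) (by
    obtain ⟨j, hj, hj'⟩ := (Nat.dvd_prime_pow Nat.prime_two).1 h8
    rcases j with _ | j
    · exact absurd (Subgroup.eq_bot_of_card_eq M (by simpa using hj')) hne
    · exact hj' ▸ dvd_pow_self 2 (by omega))
  have hcomm : ∀ g : Cfsg.PSU 3 F 2, g ^ 3 = 1 → Commute (z : Cfsg.PSU 3 F 2) g := fun g hg =>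
    Subgroup.commute_of_normal_of_disjoint M N inferInstance hNn hdisj _ _ z.2 (h3N g hg)
  obtain ⟨θ, hθ, hc⟩ := exists_frob (show Fintype.card F = 2 ^ 2 from hF)
  have hx3 : ∀ x : F, x ≠ 0 → x ^ 3 = 1 := fun x hx => by
    have := FiniteField.pow_card_sub_one_eq_one x hx
    rwa [hF] at this
  have h2 : (2 : F) = 0 := by
    have h4 : (Fintype.card F : F) = 0 := Nat.cast_card_eq_zero F
    rw [hF] at h4
    exact pow_eq_zero_iff two_ne_zero |>.1 (show (2 : F) ^ 2 = 0 by rw [← h4]; norm_num)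
  have hsc : ∀ {t : Cfsg.SU 3 F 2} {c : F}, smat t = c • (1 : Matrix (Fin 3) (Fin 3) F) →
      t ∈ Subgroup.center (Cfsg.SU 3 F 2) := fun {t c} h => Subgroup.mem_center_iff.2 fun u => smat_ext (by
    show smat u * smat t = smat t * smat u
    rw [h, Matrix.mul_smul, Matrix.smul_mul, Matrix.mul_one, Matrix.one_mul])
  -- lift the involution to an involution
  obtain ⟨s₀, hs₀⟩ := QuotientGroup.mk_surjective (z : Cfsg.PSU 3 F 2)
  have hz2 : (z : Cfsg.PSU 3 F 2) ^ 2 = 1 := by
    have h := pow_orderOf_eq_one z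
    rw [hz] at h
    exact congrArg Subtype.val h
  set s := s₀ ^ 3 with hsdef
  have hsz : (QuotientGroup.mk s : Cfsg.PSU 3 F 2) = z := by
    rw [hsdef, QuotientGroup.mk_pow, hs₀, pow_succ, hz2, one_mul]
  have hs2 : s * s = 1 := by
    have h1 : s₀ ^ 2 ∈ Subgroup.center (Cfsg.SU 3 F 2) := by
      rw [← QuotientGroup.eq_one_iff, QuotientGroup.mk_pow, hs₀, hz2]
    obtain ⟨c, hc'⟩ := center_su_scalar (show Fintype.card F = 2 ^ 2 from hF) (by norm_num) h1
    have hc'' : smat (s₀ ^ 2) = c • (1 : Matrix (Fin 3) (Fin 3) F) := hc'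
    have hc0 : c ≠ 0 := fun e => by
      have hdet : (smat (s₀ ^ 2)).det = 1 := (s₀ ^ 2).1.2
      rw [hc'', e, zero_smul, Matrix.det_zero] at hdet
      exact zero_ne_one hdet
    have e3 : s * s = (s₀ ^ 2) ^ 3 := by rw [hsdef, ← pow_add, ← pow_mul]
    refine smat_ext ?_
    rw [e3, pow_three]
    show smat (s₀ ^ 2) * (smat (s₀ ^ 2) * smat (s₀ ^ 2)) = 1
    rw [hc'']
    simp only [Matrix.mul_smul, Matrix.mul_one, smul_smul]
    rw [show c * c * c = c ^ 3 by ring, hx3 c hc0, one_smul]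
  have hcomm' : ∀ t : Cfsg.SU 3 F 2, t ^ 3 = 1 → smat s * smat t = smat t * smat s := by
    intro t ht
    have h := hcomm (QuotientGroup.mk t) (by rw [← QuotientGroup.mk_pow, ht]; rfl)
    rw [← hsz, Commute, SemiconjBy, ← QuotientGroup.mk_mul, ← QuotientGroup.mk_mul, QuotientGroup.eq] at h
    obtain ⟨c, hc'⟩ := center_su_scalar (show Fintype.card F = 2 ^ 2 from hF) (by norm_num) h
    have hc'' : smat ((s * t)⁻¹ * (t * s)) = c • (1 : Matrix (Fin 3) (Fin 3) F) := hc'
    have e1 : smat t * smat s = c • (smat s * smat t) := by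
      show smat (t * s) = c • smat (s * t)
      rw [show t * s = s * t * ((s * t)⁻¹ * (t * s)) by group]
      show smat (s * t) * smat ((s * t)⁻¹ * (t * s)) = _
      rw [hc'', Matrix.mul_smul, Matrix.mul_one]
    have hS : smat s * smat s = 1 := by show smat (s * s) = 1; rw [hs2]; rfl
    have e2 : smat t = (c * c) • smat t := by
      have h1 : smat s * smat t * smat s = c • smat t := by
        rw [Matrix.mul_assoc, e1, Matrix.mul_smul, ← Matrix.mul_assoc, hS, Matrix.one_mul]
      rw [mul_smul, ← h1, ← Matrix.smul_mul, ← e1, Matrix.mul_assoc, hS, Matrix.mul_one]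
    have ht0 : smat t ≠ 0 := fun e => by
      have hdet : (smat t).det = 1 := t.1.2
      rw [e, Matrix.det_zero] at hdet
      exact zero_ne_one hdet
    have hcc : c * c = 1 := (smul_left_injective F ht0 (e2.trans rfl |>.symm.trans (one_smul F _).symm))
    have hc1 : c = 1 := by
      have : (c - 1) * (c - 1) = 0 := by linear_combination hcc - (c - 1) * h2
      exact sub_eq_zero.1 (mul_self_eq_zero.1 this)
    rw [e1, hc1, one_smul]
  obtain ⟨ω, hω0, hω1⟩ : ∃ ω : F, ω ≠ 0 ∧ ω ≠ 1 := by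
    by_contra hcon
    push Not at hcon
    have : (Finset.univ : Finset F) ⊆ {0, 1} := fun x _ => by
      by_cases h : x = 0
      · simp [h]
      · simp [hcon x h]
    have := (Finset.card_le_card this).trans Finset.card_le_two
    simp [hF] at this
  let dd : Fin 3 → F := ![1, ω, ω ^ 2]
  have hdd3 : ∀ i, dd i ^ 3 = 1 := fun i => by
    fin_cases i <;> simp [dd, hx3 ω hω0]
    rw [← pow_mul, show 2 * 3 = 3 * 2 by norm_num, pow_mul, hx3 ω hω0, one_pow]
  have hω3 := hx3 ω hω0
  have hdet : (Matrix.diagonal dd).det = 1 := by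
    simp [Matrix.det_diagonal, Fin.prod_univ_three, dd]
    linear_combination hω3
  obtain ⟨g, hg⟩ := exists_gu (n := 3) hθ hc (Matrix.toLin' (Matrix.diagonal dd)) fun x y => by
    simp only [Matrix.toLin'_apply, stdHerm_apply, Matrix.mulVec_diagonal]
    refine Finset.sum_congr rfl fun i _ => ?_
    rw [map_mul, hθ (dd i)]
    linear_combination (θ (x i) * y i) * hdd3 i
  obtain ⟨D, hD⟩ := exists_su g (by rw [hg, LinearMap.det_toLin', hdet])
  have hDv : smat D = Matrix.diagonal dd := by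
    refine Matrix.toLin'.injective ?_
    rw [← hg, ← hD]
    exact LinearMap.ext fun x => (Matrix.toLin'_apply (smat D) x).trans (smat_mulVec D x)
  have hD3 : D ^ 3 = 1 := smat_ext (by
    rw [pow_three]
    show smat D * (smat D * smat D) = 1
    rw [hDv, Matrix.diagonal_mul_diagonal, Matrix.diagonal_mul_diagonal, ← Matrix.diagonal_one]
    congr 1
    funext i
    linear_combination hdd3 i)
  obtain ⟨P, hP⟩ := exists_perm_su (F := F) (q := 2) (finRotate 3) (by decide)
  have hP3 : P ^ 3 = 1 := smat_ext (Matrix.ext_of_mulVec_single fun k => by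
    rw [pow_three, show smat (P * (P * P)) = smat P * (smat P * smat P) from rfl, ← Matrix.mulVec_mulVec,
      ← Matrix.mulVec_mulVec, hP, hP, hP]
    show _ = (1 : Matrix (Fin 3) (Fin 3) F) *ᵥ _
    rw [Matrix.one_mulVec]
    funext i
    fin_cases i <;> simp [Function.comp]
    all_goals rfl)
  have hoff : ∀ i j, i ≠ j → smat s i j = 0 := fun i j hij => by
    have h := congrFun (congrFun (hcomm' D hD3) i) j
    rw [hDv, Matrix.mul_diagonal, Matrix.diagonal_mul] at h
    have h' : smat s i j * (dd j - dd i) = 0 := by linear_combination h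
    refine (mul_eq_zero.1 h').resolve_right (sub_ne_zero.2 ?_)
    have hω2 : ω ^ 2 ≠ 1 := fun e => hω1 (by linear_combination hω3 - ω * e)
    have hω12 : ω ≠ ω ^ 2 := fun e => hω1 (mul_left_cancel₀ hω0 (by linear_combination -e))
    fin_cases i <;> fin_cases j <;> simp [dd, hω1, hω1.symm, hω2, hω2.symm, hω12, hω12.symm] at hij ⊢
  have hrot : ∀ i : Fin 3, smat s i i = smat s (finRotate 3 i) (finRotate 3 i) := fun i => by
    have hv : ∀ (v : Fin 3 → F) (k : Fin 3), (smat s *ᵥ v) k = smat s k k * v k := fun v k => by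
      rw [Matrix.mulVec, dotProduct, Finset.sum_eq_single k (fun j _ hj => by rw [hoff k j hj.symm, zero_mul]) (by simp)]
    have h := congrArg (fun X : Matrix (Fin 3) (Fin 3) F => (X *ᵥ Pi.single (finRotate 3 i) 1) i) (hcomm' P hP3)
    simp only [← Matrix.mulVec_mulVec, hP, Function.comp_apply, hv, Pi.single_eq_same, mul_one] at h
    exact h
  have hscal : smat s = smat s 0 0 • (1 : Matrix (Fin 3) (Fin 3) F) := by
    have h01 := hrot 0
    have h12 := hrot 1
    ext i j
    rcases eq_or_ne i j with rfl | hij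
    · rw [Matrix.smul_apply, Matrix.one_apply_eq, smul_eq_mul, mul_one]
      fin_cases i
      · rfl
      · exact h01.symm
      · exact h12.symm.trans h01.symm
    · rw [hoff i j hij]; simp [hij]
  have : (z : Cfsg.PSU 3 F 2) = 1 := by rw [← hsz, QuotientGroup.eq_one_iff]; exact hsc hscal
  rw [show z = 1 from Subtype.ext this, orderOf_one] at hz
  exact absurd hz (by norm_num)

variable {F : Type*} [Field F] [Fintype F] {n q : ℕ} [hF : Fact (Fintype.card F = q ^ 2)]
  {F₀ : Type*} [Field F₀] [Fintype F₀] {q₀ : ℕ} [hF₀ : Fact (Fintype.card F₀ = q₀ ^ 2)]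
  (ι : F₀ →+* F) [hι : Fact (∀ x, ι x ^ q = ι (x ^ q₀))] (σ : F ≃+* F)

include hF₀ hι

/-- The core of the fixed point group is trivial when `p` divides its order. -/
theorem field_core_fix (hn : 3 ≤ n) (hs : ¬ (n = 3 ∧ q = 2)) (hfix : ∀ x, σ x = x ↔ x ∈ Set.range ι) {p : ℕ}
    (hp : p.Prime) (hodd : Odd p) (hσ : orderOf σ = p)
    (hdiv : p ∣ Nat.card (fixPts (semiAut (1 : Cfsg.GU n F q) σ))) :
    Cfsg.pPrimeCore p (fixPts (semiAut (1 : Cfsg.GU n F q) σ)) = ⊥ := by
  haveI : Finite (Cfsg.PSU n F q) :=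
    Finite.of_surjective _ (QuotientGroup.mk'_surjective (Subgroup.center (Cfsg.SU n F q)))
  set L := fixPts (semiAut (1 : Cfsg.GU n F q) σ) with hL
  set D := Cfsg.pPrimeCore p L with hD
  haveI : D.Normal := Cfsg.pPrimeCore_normal p _
  have hcop : (Nat.card D).Coprime p := CfsgLib.Solvable.Cores.coprime_card_pPrimeCore p
  set π₀ := baseP (n := n) (q := q) (q₀ := q₀) ι σ hfix with hπ₀
  obtain ⟨s₁, hs₁⟩ := exists_order_p (q₀ := q₀) ι σ hn hs hfix hp hodd hdiv
  haveI : Fact p.Prime := ⟨hp⟩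
  -- the image of the rational points meets the core trivially
  have hmeet : ∀ s, π₀ s ∈ D → π₀ s = 1 := by
    intro s hsD
    let ψ : Cfsg.PSU n F₀ q₀ →* L := QuotientGroup.lift _ π₀ fun z hz =>
      (baseP_eq_one_iff ι σ hn hs hfix z).2 hz
    have hψinj : Function.Injective ψ := (injective_iff_map_eq_one _).2 fun x => by
      induction x using QuotientGroup.induction_on with
      | _ t => exact fun h => (QuotientGroup.eq_one_iff t).2 ((baseP_eq_one_iff ι σ hn hs hfix t).1 h)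
    haveI : (D.comap ψ).Normal := inferInstance
    have hbot : D.comap ψ = ⊥ := by
      by_cases h32 : n = 3 ∧ q₀ = 2
      · obtain ⟨rfl, rfl⟩ := h32
        have hp3 : p = 3 := by
          have h1 : p ∣ 72 := by
            have := orderOf_dvd_natCard (QuotientGroup.mk s₁ : Cfsg.PSU 3 F₀ 2)
            rw [(psu32_structure (F := F₀) hF₀.out).1, ← orderOf_injective ψ hψinj] at this
            exact hs₁ ▸ this
          rw [show 72 = 2 ^ 3 * 3 ^ 2 by norm_num] at h1
          rcases hp.dvd_mul.1 h1 with h | h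
          · have := (Nat.prime_dvd_prime_iff_eq hp Nat.prime_two).1 (hp.dvd_of_dvd_pow h)
            subst this
            exact absurd hodd (by decide)
          · exact (Nat.prime_dvd_prime_iff_eq hp Nat.prime_three).1 (hp.dvd_of_dvd_pow h)
        subst hp3
        refine psu32_no_core (F := F₀) hF₀.out _ (hcop.coprime_dvd_left ?_)
        rw [← Subgroup.card_map_of_injective (f := ψ) hψinj]
        exact Subgroup.card_dvd_of_le (Subgroup.map_comap_le ψ _)
      · haveI : IsSimpleGroup (Cfsg.PSU n F₀ q₀) := Cfsg.Agent.S0283.result hF₀.out n hn h32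
        refine (Subgroup.Normal.eq_bot_or_eq_top inferInstance).resolve_right fun htop => ?_
        have hmem : π₀ s₁ ∈ D := by
          have : (QuotientGroup.mk s₁ : Cfsg.PSU n F₀ q₀) ∈ D.comap ψ := htop ▸ Subgroup.mem_top _
          exact this
        have h1 := Nat.eq_one_of_dvd_coprimes hcop (Subgroup.orderOf_dvd_natCard D hmem) (by rw [hs₁])
        rw [hs₁] at h1
        exact hp.one_lt.ne' h1
    have : (QuotientGroup.mk s : Cfsg.PSU n F₀ q₀) ∈ D.comap ψ := hsD
    rw [hbot, Subgroup.mem_bot] at this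
    show ψ (QuotientGroup.mk s) = 1
    rw [this, map_one]
  rw [eq_bot_iff]
  intro d hd
  rw [Subgroup.mem_bot]
  have hcd : ∀ s, d * π₀ s = π₀ s * d := by
    intro s
    -- the commutator lies in the image
    obtain ⟨u, hu⟩ := QuotientGroup.mk_surjective (d : Cfsg.PSU n F q)
    have hu1 : semiAut (1 : Cfsg.GU n F q) σ (QuotientGroup.mk u) = QuotientGroup.mk u := hu ▸ d.2
    obtain ⟨c, hc⟩ := fix_mk hn hs _ _ hu1
    have hz : ∃ z ∈ Subgroup.center (Cfsg.SU n F q), semiHom (1 : Cfsg.GU n F q) σ u = u * z := by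
      rw [semiAut_mk, eq_comm, QuotientGroup.eq] at hu1
      exact ⟨_, hu1, (mul_inv_cancel_left _ _).symm⟩
    obtain ⟨z, hz, hze⟩ := hz
    set b := baseSU (q := q) ι s with hb
    have hfixb : semiHom (1 : Cfsg.GU n F q) σ (u * b * u⁻¹) = u * b * u⁻¹ := by
      rw [map_mul, map_mul, map_inv, hze, hb, semiHom_baseSU ι σ hfix]
      have := Subgroup.mem_center_iff.1 hz (baseSU (q := q) ι s)
      calc u * z * baseSU ι s * (u * z)⁻¹ = u * (z * baseSU ι s) * z⁻¹ * u⁻¹ := by group
        _ = _ := by rw [← this]; group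
    obtain ⟨t, ht⟩ := exists_su_pre (q₀ := q₀) ι σ hfix _ hfixb
    have hconj : d * π₀ s * d⁻¹ = π₀ t := Subtype.ext (by
      show (d : Cfsg.PSU n F q) * QuotientGroup.mk (baseSU ι s) * (d : Cfsg.PSU n F q)⁻¹ = QuotientGroup.mk (baseSU ι t)
      rw [ht, ← hu]
      rfl)
    have h1 : π₀ (t * s⁻¹) ∈ D := by
      rw [map_mul, map_inv, ← hconj, mul_assoc, mul_assoc]
      exact mul_mem hd (mul_assoc (π₀ s) _ _ ▸ (Cfsg.pPrimeCore_normal p _).conj_mem _ (inv_mem hd) (π₀ s))
    have h2 := hmeet _ h1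
    rw [map_mul, map_inv, ← hconj, mul_inv_eq_one, mul_inv_eq_iff_eq_mul] at h2
    exact h2
  have hdm : MulAut.conj (d : Cfsg.PSU n F q) = 1 := by
    refine field_fix (q₀ := q₀) ι σ hn hs hfix hσ _ ?_ fun s => ?_
    · rw [orderOf_injective _ (conj_injective hn hs), Subgroup.orderOf_coe, ← Subgroup.orderOf_mk d hd]
      exact hcop.coprime_dvd_left (orderOf_dvd_natCard _)
    · have := congrArg (fun x : L => (x : Cfsg.PSU n F q)) (hcd s)
      rw [MulAut.conj_apply, mul_inv_eq_iff_eq_mul]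
      exact this
  exact Subtype.ext (conj_injective hn hs (hdm.trans (map_one _).symm))

/-- The fixed points are not trivial. -/
theorem field_fix_ne_bot (hn : 3 ≤ n) (hs : ¬ (n = 3 ∧ q = 2)) (hfix : ∀ x, σ x = x ↔ x ∈ Set.range ι) :
    fixPts (semiAut (1 : Cfsg.GU n F q) σ) ≠ ⊥ := by
  intro h
  haveI : NeZero n := ⟨by omega⟩
  obtain ⟨s, hs'⟩ := exists_perm_su (F := F₀) (q := q₀) (Fin.cycleRange (⟨2, by omega⟩ : Fin n)) (by
    rw [Fin.sign_cycleRange]; norm_num)
  have h1 : baseP (q := q) ι σ hfix s = 1 := Subtype.ext (Subgroup.mem_bot.1 (h ▸ (baseP (q := q) ι σ hfix s).2))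
  rw [baseP_eq_one_iff ι σ hn hs hfix] at h1
  obtain ⟨c, hc⟩ := center_su_scalar hF₀.out (by omega) h1
  have h2 := congrFun (hs' (Pi.single (Fin.cycleRange (⟨2, by omega⟩ : Fin n) ⟨0, by omega⟩) (1 : F₀))) ⟨0, by omega⟩
  have hne : Fin.cycleRange (⟨2, by omega⟩ : Fin n) ⟨0, by omega⟩ ≠ ⟨0, by omega⟩ := by
    rw [Fin.cycleRange_of_lt (by simp [Fin.lt_def])]
    simp [Fin.ext_iff, Fin.val_add, Nat.mod_eq_of_lt (by omega : 1 < n)]
  rw [show smat s = c • (1 : Matrix (Fin n) (Fin n) F₀) from hc, Matrix.smul_mulVec, Matrix.one_mulVec] at h2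
  simp only [Pi.smul_apply, Function.comp_apply, Pi.single_eq_same, Pi.single_eq_of_ne hne.symm, smul_zero] at h2
  exact zero_ne_one h2

/-- Local balance for field automorphisms. -/
theorem field_core (hn : 3 ≤ n) (hs : ¬ (n = 3 ∧ q = 2)) (hfix : ∀ x, σ x = x ↔ x ∈ Set.range ι) {p : ℕ}
    (hp : p.Prime) (hodd : Odd p) (hσ : orderOf σ = p) (𝒢 : Subgroup (MulAut (Cfsg.PSU n F q)))
    (hinn : ∀ k, MulAut.conj k ∈ 𝒢) (hdiv : p ∣ Nat.card (fixPts (semiAut (1 : Cfsg.GU n F q) σ))) :
    Cfsg.pPrimeCore p ↥(𝒢 ⊓ Subgroup.centralizer {semiAut (1 : Cfsg.GU n F q) σ}) = ⊥ := by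
  haveI : Finite (Cfsg.PSU n F q) :=
    Finite.of_surjective _ (QuotientGroup.mk'_surjective (Subgroup.center (Cfsg.SU n F q)))
  exact core_bot (conj_injective hn hs) _ 𝒢 hinn (field_core_fix (q₀ := q₀) ι σ hn hs hfix hp hodd hσ hdiv)
    fun m _ hm hfixm => field_fix (q₀ := q₀) ι σ hn hs hfix hσ m hm fun s => hfixm _ (baseP ι σ hfix s).2

end CfsgLib.KnownC.AutPSU.Balance
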