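import Cfsg.Agent.Lib.KnownC.AutPSU.Balance.Common
import Cfsg.Agent.Lib.KnownC.AutPSU.Balance.Line

/-!
# The centraliser of a graph automorphism of `PSU_n(q)` has no odd normal subgroup
-/

set_option autoImplicit false
set_option linter.unusedSectionVars false

namespace CfsgLib.KnownC.AutPSU.Balance

open Matrix CfsgLib.Classical

variable {F : Type*} [Field F] [Fintype F] {n q : ℕ} [hF : Fact (Fintype.card F = q ^ 2)]

local notation "GUn" => Cfsg.GU n F q
local notation "SUn" => Cfsg.SU n F q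
local notation "PSUn" => Cfsg.PSU n F q
local notation "Vn" => Fin n → F

/-- A unitary matrix fixed by `x ↦ A σ(x) A⁻¹`. -/
def RealU (A : GUn) (σ : F ≃+* F) (g : GUn) : Prop := A * gMap σ g = g * A

theorem realU_mul {A : GUn} {σ : F ≃+* F} {g h : GUn} (hg : RealU A σ g) (hh : RealU A σ h) : RealU A σ (g * h) := by
  rw [RealU, map_mul, ← mul_assoc, hg, mul_assoc, hh, mul_assoc]

theorem realU_inv {A : GUn} {σ : F ≃+* F} {g : GUn} (hg : RealU A σ g) : RealU A σ g⁻¹ := by
  rw [RealU, map_inv, mul_inv_eq_iff_eq_mul, mul_assoc, hg, inv_mul_cancel_left]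

theorem realU_commute {A : GUn} {σ : F ≃+* F} {g : GUn} (hg : RealU A σ g) :
    semiAut g 1 ∈ Subgroup.centralizer {semiAut A σ} := by
  rw [Subgroup.mem_centralizer_singleton_iff, semiAut_mul, semiAut_mul, gMap_one, mul_one, one_mul, hg]

/-- The conjugate-linear map attached to `x ↦ A σ(x) A⁻¹`. -/
def jMap (A : GUn) (σ : F ≃+* F) (a : F) (v : Vn) : Vn := a⁻¹ • semiVec A σ v

theorem semiVec_semiVec (A B : GUn) (σ τ : F ≃+* F) (v : Vn) :
    semiVec A σ (semiVec B τ v) = semiVec (A * gMap σ B) (σ * τ) v := by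
  simp only [semiVec, umat_mul, ← Matrix.mulVec_mulVec, umat_gMap]
  congr 1
  funext i
  exact RingHom.map_mulVec σ.toRingHom (umat B) (fun i => τ (v i)) i

theorem semiVec_zero (A : GUn) (σ : F ≃+* F) : semiVec A σ 0 = 0 := by
  rw [semiVec, show (fun i => σ ((0 : Vn) i)) = 0 from funext fun i => map_zero σ, Matrix.mulVec_zero]

theorem semiVec_refl (v : Vn) : semiVec (1 : GUn) 1 v = v := by
  rw [semiVec, show umat (1 : GUn) = 1 from rfl, Matrix.one_mulVec]; rfl

theorem realU_jMap {A : GUn} {σ : F ≃+* F} {a : F} (ha : a ≠ 0) (g : GUn) :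
    RealU A σ g ↔ ∀ v, toEnd g (jMap A σ a v) = jMap A σ a (toEnd g v) := by
  have key : ∀ v, semiVec A σ (toEnd g v) = toEnd (A * gMap σ g) (fun i => σ (v i)) := fun v => by
    rw [toEnd_apply, toEnd_apply, semiVec, umat_mul, ← Matrix.mulVec_mulVec, umat_gMap]
    congr 1
    funext i
    exact RingHom.map_mulVec σ.toRingHom (umat g) v i
  have key2 : ∀ v, toEnd g (semiVec A σ v) = toEnd (g * A) (fun i => σ (v i)) := fun v => by
    rw [map_mul, Module.End.mul_apply, toEnd_apply A]; rfl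
  constructor
  · intro h v
    rw [jMap, jMap, map_smul, key, key2, h]
  · intro h
    refine toEnd_injective (LinearMap.ext fun w => ?_)
    have h1 := h fun i => σ.symm (w i)
    rw [jMap, jMap, map_smul, key, key2] at h1
    simp only [RingEquiv.apply_symm_apply] at h1
    exact (smul_right_injective Vn (inv_ne_zero ha) h1).symm

theorem frob_eq {θ : F →+* F} (hθ : ∀ x, θ x = x ^ q) (hc : IsConjugation θ) (σ : F ≃+* F) (hσ : orderOf σ = 2) :
    ∀ x, σ x = x ^ q := by
  let θe : F ≃+* F := RingEquiv.ofBijective θ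
    ⟨θ.injective, Finite.surjective_of_injective θ.injective⟩
  have hθe : ∀ x, θe x = θ x := fun x => rfl
  obtain ⟨p, hp⟩ := CharP.exists F
  obtain ⟨m, hp', hm⟩ := FiniteField.card F p
  haveI := Fact.mk hp'
  obtain ⟨e⟩ := AutPSL.ringAut_cyclic (F := F) hm
  haveI : IsCyclic (F ≃+* F) := isCyclic_of_surjective e.symm e.symm.surjective
  have h1 : orderOf θe = 2 := by
    refine orderOf_eq_prime (RingEquiv.ext fun x => ?_) fun h0 => ?_
    · rw [pow_two]; exact (hθe _).trans (hc.invol x)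
    · obtain ⟨a, ha⟩ := hc.exists_not_fixed
      exact ha ((hθe a).symm.trans (by rw [h0]; rfl))
  classical
  haveI : Finite (F ≃+* F) := Finite.of_injective (fun g : F ≃+* F => (g : F → F)) DFunLike.coe_injective
  haveI : Fintype (F ≃+* F) := Fintype.ofFinite _
  have h2 : σ = θe := by
    by_contra hne
    have hsub : ({1, σ, θe} : Finset (F ≃+* F)) ⊆ Finset.univ.filter fun g => g ^ 2 = 1 := fun g hg => by
      simp only [Finset.mem_insert, Finset.mem_singleton] at hg
      rcases hg with rfl | rfl | rfl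
      · simp
      · simp [← hσ, pow_orderOf_eq_one]
      · simp [← h1, pow_orderOf_eq_one]
    have hσ1 : σ ≠ 1 := fun e => by simp [e] at hσ
    have hθ1 : θe ≠ 1 := fun e => by simp [e] at h1
    have h3 : ({1, σ, θe} : Finset (F ≃+* F)).card = 3 :=
      Finset.card_eq_three.2 ⟨1, σ, θe, hσ1.symm, hθ1.symm, hne, rfl⟩
    have := (Finset.card_le_card hsub).trans (IsCyclic.card_pow_eq_one_le (α := F ≃+* F) (n := 2) (by norm_num))
    omega
  intro x
  rw [h2, hθe, hθ]

/-- The real structure of an involutive graph automorphism. -/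
theorem exists_realForm (hn : 3 ≤ n) (hs : ¬ (n = 3 ∧ q = 2)) (h2 : (2 : F) ≠ 0) (A : GUn) (σ : F ≃+* F)
    (hσ : orderOf σ = 2) (hA : semiAut A σ ^ 2 = 1) :
    ∃ (θ : F →+* F) (a ε : F), (∀ x, θ x = x ^ q) ∧ (∀ x, σ x = θ x) ∧ IsConjugation θ ∧ a ≠ 0 ∧
      (ε = 1 ∨ ε = -1) ∧ RealForm (stdHerm θ n) (jMap A σ a) ε := by
  obtain ⟨θ, hθ, hc⟩ := exists_frob hF.out
  have hσθ : ∀ x, σ x = θ x := fun x => (frob_eq hθ hc σ hσ x).trans (hθ x).symm
  obtain ⟨c, hcA, hcfix⟩ := semiPow_scalar hn hs A σ hσ hA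
  set ε : F := ((c : Fˣ) : F) with hε
  have hcA' : A * gMap σ A = sclU c := by
    rw [← hcA]
    show _ = A * gMap σ (A * gMap σ 1)
    rw [map_one, mul_one]
  have hε2 : ε * ε = 1 := by
    have h1 := nOne_mul c.2
    rwa [← hθ, ← hσθ, hcfix] at h1
  obtain ⟨a, ha⟩ := hc.exists_norm_eq (a := ε) (by rw [← hσθ]; exact hcfix)
  have hε0 : ε ≠ 0 := fun e => by rw [e, zero_mul] at hε2; exact zero_ne_one hε2
  have ha0 : a ≠ 0 := fun e => hε0 (by rw [← ha, e, zero_mul])
  have hainv : a⁻¹ * θ a⁻¹ = ε := by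
    rw [map_inv₀, ← mul_inv, ha, inv_eq_of_mul_eq_one_left hε2]
  refine ⟨θ, a, ε, hθ, hσθ, hc, ha0, mul_self_eq_one_iff.1 hε2, stdHerm_isHermitian hc n, stdHerm_sepRight n, h2,
    fun x y => ?_, fun t x => ?_, fun x => ?_, fun x y => ?_⟩
  · rw [jMap, semiVec_add, smul_add]; rfl
  · rw [jMap, semiVec_smul, hσθ, smul_comm]; rfl
  · rw [jMap, jMap, semiVec_smul, hσθ, smul_smul, semiVec_semiVec, hcA',
      show σ * σ = 1 by rw [← pow_two, ← hσ, pow_orderOf_eq_one], semiVec, umat_sclU, Matrix.smul_mulVec,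
      Matrix.one_mulVec, smul_smul, hainv, hε2, one_smul]
    rfl
  · simp only [jMap, map_smul, map_smulₛₗ, LinearMap.smul_apply, smul_eq_mul]
    rw [semiVec_form hθ, hσθ]
    linear_combination θ (stdHerm θ n x y) * hainv

variable {A : Cfsg.GU n F q} {σ : F ≃+* F} {θ : F →+* F} {a ε : F}

theorem exists_refl (hθ : ∀ x, θ x = x ^ q) (h : RealForm (stdHerm θ n) (jMap A σ a) ε) (ha : a ≠ 0) (he : ε = 1)
    {u : Vn} (hu : jMap A σ a u = u) (hua : stdHerm θ n u u ≠ 0) :
    ∃ g : GUn, toEnd g = refl (stdHerm θ n) u ∧ RealU A σ g ∧ LinearMap.det (toEnd g) = -1 := by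
  obtain ⟨g, hg⟩ := exists_gu hθ h.herm.conj _ (h.refl_isom hua)
  refine ⟨g, hg, (realU_jMap ha g).2 fun v => ?_, ?_⟩
  · rw [hg]; exact h.refl_comm he hu v
  rw [hg, show refl (stdHerm θ n) u = LinearMap.transvection ((-(2 / stdHerm θ n u u)) • stdHerm θ n u) u from
    LinearMap.ext fun x => by
      rw [refl_apply, LinearMap.transvection.apply, LinearMap.smul_apply, smul_eq_mul, neg_mul, neg_smul,
        sub_eq_add_neg], LinearMap.transvection.det, LinearMap.smul_apply, smul_eq_mul, neg_mul,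
    div_mul_cancel₀ _ hua]
  ring

theorem exists_tv (hθ : ∀ x, θ x = x ^ q) (h : RealForm (stdHerm θ n) (jMap A σ a) ε) (ha : a ≠ 0) (he : ε = -1)
    {u : Vn} (hu : jMap A σ a u = u) {s : F} (hs : s + θ s = 0) :
    ∃ g : GUn, toEnd g = tv (stdHerm θ n) u s ∧ RealU A σ g ∧ LinearMap.det (toEnd g) = 1 := by
  obtain ⟨g, hg⟩ := exists_gu hθ h.herm.conj _ (h.tv_isom (h.alt he hu) hs)
  refine ⟨g, hg, (realU_jMap ha g).2 fun v => ?_, ?_⟩
  · rw [hg]; exact h.tv_comm he hu hs v
  rw [hg, show tv (stdHerm θ n) u s = LinearMap.transvection (s • stdHerm θ n u) u from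
    LinearMap.ext fun x => by
      rw [tv_apply, LinearMap.transvection.apply, LinearMap.smul_apply, smul_eq_mul],
    LinearMap.transvection.det, LinearMap.smul_apply, h.alt he hu, smul_zero, add_zero]

theorem tv_mul_neg (h : RealForm (stdHerm θ n) (jMap A σ a) ε) (he : ε = -1) {u : Vn} (hu : jMap A σ a u = u)
    (s : F) : tv (stdHerm θ n) u s * tv (stdHerm θ n) u (-s) = 1 := LinearMap.ext fun x => by
  simp [tv_apply, Module.End.mul_apply, h.alt he hu]

/-- Odd subgroups of the centraliser in the inner-diagonal group normalised by the real unitary elements. -/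
theorem graph_trivial (hn : 3 ≤ n) (hs : ¬ (n = 3 ∧ q = 2)) {r : ℕ} (hr : Odd r) (hr0 : (r : F) = 0)
    (hθ : ∀ x, θ x = x ^ q) (hσθ : ∀ x, σ x = θ x) (h : RealForm (stdHerm θ n) (jMap A σ a) ε) (ha : a ≠ 0)
    (he : ε = 1 ∨ ε = -1) (M : Subgroup (MulAut PSUn)) (hMi : M ≤ Cfsg.inndiagPSU n F q)
    (hMc : M ≤ Subgroup.centralizer {semiAut A σ}) (hodd : ∀ m ∈ M, Odd (orderOf m))
    (hnorm : ∀ g : GUn, RealU A σ g → ∀ m ∈ M, semiAut g 1 * m * (semiAut g 1)⁻¹ ∈ M) : M = ⊥ := by
  let π : GUn →* MulAut PSUn := MonoidHom.mk' (fun A => semiAut A 1) (fun A B => by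
    rw [semiAut_mul, gMap_one, one_mul])
  let S : Submonoid GUn :=
    { carrier := {g | RealU A σ g ∧ π g ∈ M}
      mul_mem' := fun hg hh => ⟨realU_mul hg.1 hh.1, by rw [map_mul]; exact mul_mem hg.2 hh.2⟩
      one_mem' := ⟨by rw [RealU, map_one, mul_one, one_mul], by rw [map_one]; exact one_mem M⟩ }
  let R : Submonoid (Module.End F Vn) := S.map toEnd
  have hR : OddGroup (stdHerm θ n) (jMap A σ a) ε R := by
    refine ⟨?_, ?_, ?_, ?_, ?_, ?_⟩
    · rintro _ ⟨g, hg, rfl⟩
      exact ⟨toEnd g⁻¹, ⟨g⁻¹, ⟨realU_inv hg.1, by rw [map_inv]; exact inv_mem hg.2⟩, rfl⟩,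
        by rw [← map_mul, mul_inv_cancel, map_one]⟩
    · rintro _ ⟨g, hg, rfl⟩ x y
      exact toEnd_isom hθ g x y
    · rintro _ ⟨g, hg, rfl⟩ x
      exact (realU_jMap ha g).1 hg.1 x
    · rintro _ ⟨g, hg, rfl⟩
      refine ⟨orderOf (π g), hodd _ hg.2, ?_⟩
      have h1 : semiAut (g ^ orderOf (π g)) 1 = 1 := (map_pow π g _).trans (pow_orderOf_eq_one _)
      obtain ⟨-, c, hc⟩ := semi_eq_one hn hs h1
      exact ⟨c, fun x => by rw [← map_pow, toEnd_apply, hc, Matrix.smul_mulVec, Matrix.one_mulVec]⟩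
    · rintro he1 u hu hua _ ⟨g, hg, rfl⟩
      obtain ⟨k, hk, hkr, -⟩ := exists_refl hθ h ha he1 hu hua
      have hkk : k⁻¹ = k := inv_eq_of_mul_eq_one_right (toEnd_injective (by
        rw [map_mul, map_one, hk]
        exact LinearMap.ext fun x => h.refl_invol hua x))
      refine ⟨k * g * k⁻¹, ⟨realU_mul (realU_mul hkr hg.1) (realU_inv hkr), ?_⟩, by
        rw [map_mul, map_mul, hkk, hk]⟩
      rw [map_mul, map_mul, map_inv]
      exact hnorm k hkr _ hg.2
    · rintro he1 u s hu hs' _ ⟨g, hg, rfl⟩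
      obtain ⟨k, hk, hkr, -⟩ := exists_tv hθ h ha he1 hu hs'
      refine ⟨k * g * k⁻¹, ⟨realU_mul (realU_mul hkr hg.1) (realU_inv hkr), ?_⟩, ?_⟩
      · rw [map_mul, map_mul, map_inv]
        exact hnorm k hkr _ hg.2
      · have e : toEnd (k⁻¹ : GUn) = tv (stdHerm θ n) u (-s) := by
          rw [← mul_one (toEnd (k⁻¹ : GUn)), ← tv_mul_neg h he1 hu s, ← hk, ← mul_assoc, ← map_mul,
            inv_mul_cancel, map_one, one_mul]
        rw [map_mul, map_mul, hk, e]
  rw [eq_bot_iff]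
  intro m hm
  rw [Subgroup.mem_bot]
  obtain ⟨G, rfl⟩ := (inndiag_iff_mem _).1 (hMi hm)
  have hcomm := Subgroup.mem_centralizer_singleton_iff.1 (hMc hm)
  rw [semiAut_mul, semiAut_mul, gMap_one, mul_one, one_mul, eq_comm, semi_eq_iff hn hs] at hcomm
  obtain ⟨-, c, hc⟩ := hcomm
  set G2 := sclU c * G * G with hG2
  have hG2r : RealU A σ G2 := by
    have hcn : ∀ c : NOne F q, σ ((c : Fˣ) : F) * ((c : Fˣ) : F) = 1 := fun c => by
      rw [hσθ, hθ, mul_comm, nOne_mul c.2]
    have e : A * sclU (⟨Units.map σ.toRingHom.toMonoidHom c, Units.ext (by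
        show σ ((c : Fˣ) : F) ^ (q + 1) = 1
        rw [← map_pow, ← Units.val_pow_eq_pow_val, mem_nOne.1 c.2]
        simp)⟩ : NOne F q) = sclU c⁻¹ * A := by
      rw [sclU_comm]
      congr 2
      exact Subtype.ext (Units.ext ((eq_inv_of_mul_eq_one_left (hcn c)).trans (Units.val_inv_eq_inv_val _).symm))
    rw [RealU, hG2, map_mul, map_mul, gMap_sclU, ← mul_assoc, ← mul_assoc, e, mul_assoc (sclU c⁻¹) A, hc,
      ← mul_assoc, ← mul_assoc, ← map_mul, inv_mul_cancel, map_one, one_mul, mul_assoc G A, hc, ← mul_assoc,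
      ← mul_assoc, ← sclU_comm]
  have hπ : π G2 = semiAut G 1 ^ 2 := by
    show semiAut (sclU c * G * G) 1 = _
    rw [mul_assoc, semiAut_sclU_mul, pow_two, semiAut_mul, gMap_one, mul_one]
  have hmem : toEnd G2 ∈ R := ⟨G2, ⟨hG2r, by rw [hπ]; exact pow_mem hm 2⟩, rfl⟩
  obtain ⟨b, hb⟩ := hR.scalar h he (by rw [Module.finrank_fin_fun]; omega) hr hr0 hmem
  have h2 : semiAut G 1 ^ 2 = 1 := hπ ▸ semiAut_scalar (by omega) hb
  obtain ⟨j, hj⟩ := hodd _ hm
  rw [← pow_orderOf_eq_one (semiAut G 1), hj, pow_succ, pow_mul, h2, one_pow, one_mul]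

/-- The automorphisms of odd order centralising the real elements. -/
theorem graph_fix (hn : 3 ≤ n) (hs : ¬ (n = 3 ∧ q = 2))
    (hσ : orderOf σ = 2) (hθ : ∀ x, θ x = x ^ q) (hσθ : ∀ x, σ x = θ x)
    (h : RealForm (stdHerm θ n) (jMap A σ a) ε) (ha : a ≠ 0) (he : ε = 1 ∨ ε = -1) (m : MulAut PSUn)
    (hm : (orderOf m).Coprime 2) (hfix : ∀ l ∈ fixPts (semiAut A σ), m l = l) : m = 1 := by
  obtain ⟨B, τ, rfl⟩ := exists_semi hn hs m
  have h3 : 3 ≤ Module.finrank F Vn := by rw [Module.finrank_fin_fun]; omega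
  set k := orderOf (semiAut B τ) with hk
  have hkpow : semiAut B τ ^ k = 1 := pow_orderOf_eq_one _
  have hmk : ∀ g : GUn, RealU A σ g → ∀ s, suToGU n F q s = g →
      semiAut B τ (QuotientGroup.mk s) = QuotientGroup.mk s := by
    intro g hg s hsg
    refine hfix _ ?_
    show semiAut A σ (QuotientGroup.mk s) = QuotientGroup.mk s
    rw [semiAut_mk]
    refine congrArg _ (suToGU_injective ?_)
    rw [suToGU_semiHom, hsg, hg, mul_inv_cancel_right]
  have hcomm : ∀ g : GUn, RealU A σ g → ∀ s, suToGU n F q s = g → ∀ c : F,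
      smat (semiHom B τ s) = c • smat s → c = 1 → ∀ x, semiVec B τ (toEnd g x) = toEnd g (semiVec B τ x) := by
    intro g _ s hsg c hc hc1 x
    rw [← hsg, ← smat_mulVec, ← smat_mulVec]
    exact semiVec_comm B τ (smat_ext (by rw [hc, hc1, one_smul])) x
  have hinj : ∀ x, semiVec B τ x = 0 → x = 0 := fun x hx => by
    have h1 := congrArg (semiVec (gMap τ⁻¹ B⁻¹) τ⁻¹) hx
    rwa [semiVec_semiVec, ← map_mul, inv_mul_cancel, map_one, inv_mul_cancel, semiVec_refl, semiVec_zero] at h1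
  have hline : ∀ u, jMap A σ a u = u → (ε = 1 → stdHerm θ n u u ≠ 0) → ∃ b : F, semiVec B τ u = b • u := by
    intro u hu hua
    rcases he with he | he
    · have hua' := hua he
      obtain ⟨w, hw, hwa, huw⟩ := h.exists_aniso_perp_one h3 he hu hua'
      obtain ⟨z, hz, hza, huz, hwz⟩ := h.exists_aniso_perp h3 he hu hw hua' hwa huw
      have key : ∀ w, jMap A σ a w = w → stdHerm θ n w w ≠ 0 → stdHerm θ n u w = 0 →
          (2 : F) • semiVec B τ u = (2 / stdHerm θ n u u * stdHerm θ n u (semiVec B τ u)) • u +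
            (2 / stdHerm θ n w w * stdHerm θ n w (semiVec B τ u)) • w := by
        intro w hw hwa huw
        have hwu : stdHerm θ n w u = 0 := by rw [(h.symm_real he hu hw).2, huw]
        obtain ⟨g1, hg1, hr1, hd1⟩ := exists_refl hθ h ha he hu hua'
        obtain ⟨g2, hg2, hr2, hd2⟩ := exists_refl hθ h ha he hw hwa
        obtain ⟨s, hsg⟩ := exists_su (g1 * g2) (by rw [map_mul, map_mul, hd1, hd2]; ring)
        obtain ⟨c, hc⟩ := fix_mk hn hs B τ (hmk _ (realU_mul hr1 hr2) s hsg)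
        have hss : s * s = 1 := suToGU_injective (toEnd_injective (by
          rw [map_mul, map_one, map_mul, map_one, hsg, map_mul, hg1, hg2]
          refine LinearMap.ext fun x => ?_
          simp only [Module.End.mul_apply, Module.End.one_apply, refl_apply, map_sub, map_smul, smul_eq_mul,
            huw, hwu]
          match_scalars <;> field_simp <;> ring))
        have hc2 : c * c = 1 := by
          have e : smat (semiHom B τ s) * smat (semiHom B τ s) = 1 := by
            show smat (semiHom B τ s * semiHom B τ s) = 1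
            rw [← map_mul, hss, map_one]; rfl
          rw [hc, Matrix.smul_mul, Matrix.mul_smul, smul_smul,
            show smat s * smat s = 1 from show smat (s * s) = 1 by rw [hss]; rfl] at e
          have := congrFun (congrFun e ⟨0, by omega⟩) ⟨0, by omega⟩
          simpa using this
        have hck := scalar_pow hn hs B τ hc (by
          rcases mul_self_eq_one_iff.1 hc2 with e | e <;> simp [e]) hkpow
        have hc1 : c = 1 := by
          obtain ⟨j, hj⟩ := Nat.coprime_two_right.1 hm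
          rwa [hj, pow_succ, pow_mul, pow_two, hc2, one_pow, one_mul] at hck
        have h1 := hcomm _ (realU_mul hr1 hr2) s hsg c hc hc1 u
        simp only [map_mul, Module.End.mul_apply, hg1, hg2, refl_apply, map_sub, map_smul, smul_eq_mul, huw, hwu,
          mul_zero, zero_smul, sub_zero, div_mul_cancel₀ _ hua', two_smul, sub_add_cancel_left] at h1
        rw [show -u = (-1 : F) • u from (neg_one_smul F u).symm, semiVec_smul, map_neg, map_one, neg_one_smul,
          neg_eq_iff_add_eq_zero] at h1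
        rw [← sub_eq_zero, ← h1]
        module
      refine ⟨2⁻¹ * (2 / stdHerm θ n u u * stdHerm θ n u (semiVec B τ u)), ?_⟩
      have e1 := key w hw hwa huw
      have e2 := congrArg (stdHerm θ n w) (key z hz hza huz)
      have hwu : stdHerm θ n w u = 0 := by rw [(h.symm_real he hu hw).2, huw]
      simp only [map_add, map_smul, smul_eq_mul, hwu, hwz, mul_zero, add_zero, mul_eq_zero, h.two, false_or] at e2
      rw [e2, mul_zero, zero_smul, add_zero] at e1
      rw [mul_smul, ← e1, smul_smul, inv_mul_cancel₀ h.two, one_smul]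
    · by_cases hu0 : u = 0
      · exact ⟨0, by rw [hu0, semiVec_zero, zero_smul]⟩
      obtain ⟨δ, hδ0, hδ⟩ := h.herm.conj.exists_trace_zero
      obtain ⟨g, hg, hgr, hgd⟩ := exists_tv hθ h ha he hu hδ
      obtain ⟨s, hsg⟩ := exists_su g hgd
      obtain ⟨c, hc⟩ := fix_mk hn hs B τ (hmk g hgr s hsg)
      have hgx : ∀ x, toEnd g x = x + (δ * stdHerm θ n u x) • u := fun x => by rw [hg, tv_apply]
      have hsv : ∀ x, semiVec B τ (toEnd g x) = c • toEnd g (semiVec B τ x) := fun x => by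
        rw [← hsg, ← smat_mulVec, ← smat_mulVec, ← semiHom_mulVec, hc, Matrix.smul_mulVec]
      set w := semiVec B τ u with hwdef
      have hw0 : w ≠ 0 := fun e => hu0 (hinj u e)
      -- the scalar is one, as both sides are unipotent
      have hfixu : toEnd g u = u := by rw [hgx, h.alt he hu, mul_zero, zero_smul, add_zero]
      have e1 : toEnd g w = c⁻¹ • w := by
        have := hsv u
        rw [hfixu, ← hwdef] at this
        have hc0 : c ≠ 0 := fun e => hw0 (by rw [this, e, zero_smul])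
        rw [this, inv_smul_smul₀ hc0, ← this]
      have e2 := hgx w
      rw [e1] at e2
      have e3 := congrArg (toEnd g) e2
      rw [map_smul, e1, map_add, map_smul, hfixu, e1] at e3
      have hc1 : c = 1 := by
        have h4 : (c⁻¹ - 1) • ((c⁻¹ - 1) • w) = 0 := by
          linear_combination (norm := module) e3 - e2
        rcases smul_eq_zero.1 h4 with h5 | h5
        · exact inv_eq_one.1 (sub_eq_zero.1 h5)
        · rcases smul_eq_zero.1 h5 with h6 | h6
          · exact inv_eq_one.1 (sub_eq_zero.1 h6)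
          · exact absurd h6 hw0
      obtain ⟨x, hx, hux⟩ := h.exists_real_pairing hu0
      have e4 := hsv x
      rw [hc1, one_smul, hgx, hgx, semiVec_add, semiVec_smul, add_right_inj, ← hwdef] at e4
      refine ⟨(τ (δ * stdHerm θ n u x))⁻¹ * (δ * stdHerm θ n u (semiVec B τ x)), ?_⟩
      rw [mul_smul, ← e4, inv_smul_smul₀ ((map_ne_zero τ).2 (mul_ne_zero hδ0 hux))]
  obtain ⟨hτ, b, hb⟩ := h.scalar_of_lines he h3 τ.toRingHom (semiVec B τ) (semiVec_add B τ) (semiVec_smul B τ)
    hinj hline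
  have hτ1 : τ = 1 := by
    haveI : Finite (F ≃+* F) := Finite.of_injective (fun g : F ≃+* F => (g : F → F)) DFunLike.coe_injective
    have hτk : τ ^ k = 1 := by
      rw [semiAut_pow] at hkpow
      exact (semi_eq_one hn hs hkpow).1
    exact eq_one_of_zpowers (zpowers_of_fix σ τ fun c hc => hτ c (by rw [← hσθ]; exact hc)) hτk (hσ.symm ▸ hm)
  subst hτ1
  have hBb : ∀ x, toEnd B x = b • x := h.scalar_of_real fun x hx => by
    rw [← hb x hx, toEnd_apply]; rfl
  exact semiAut_scalar (by omega) hBb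

/-- Local balance for graph automorphisms. -/
theorem graph_core (hn : 3 ≤ n) (hs : ¬ (n = 3 ∧ q = 2)) {r : ℕ} (hr : Odd r) (hr0 : (r : F) = 0) (h2 : (2 : F) ≠ 0)
    (A : GUn) (σ : F ≃+* F) (hσ : orderOf σ = 2) (hA : semiAut A σ ^ 2 = 1) [Nontrivial PSUn]
    (𝒢 : Subgroup (MulAut PSUn)) (hinn : ∀ k : PSUn, MulAut.conj k ∈ 𝒢) :
    Cfsg.pPrimeCore 2 ↥(𝒢 ⊓ Subgroup.centralizer {semiAut A σ}) = ⊥ ∧
      ¬ Nat.Coprime 2 (Nat.card (fixPts (semiAut A σ))) := by
  obtain ⟨θ, a, ε, hθ, hσθ, hc, ha, he, h⟩ := exists_realForm hn hs h2 A σ hσ hA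
  set β := semiAut A σ with hβ
  have hinj := conj_injective (F := F) (q := q) hn hs
  haveI : Finite PSUn := Finite.of_surjective _ (QuotientGroup.mk'_surjective (Subgroup.center SUn))
  have hD : Cfsg.pPrimeCore 2 (fixPts β) = ⊥ := by
    set P := (Cfsg.pPrimeCore 2 (fixPts β)).map (fixPts β).subtype with hP
    have hbot : P.map MulAut.conj = ⊥ := by
      refine graph_trivial hn hs hr hr0 hθ hσθ h ha he _ ?_ ?_ ?_ ?_
      · rintro _ ⟨l, -, rfl⟩
        exact inn_le_inndiag ⟨l, rfl⟩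
      · rintro _ ⟨_, ⟨l, -, rfl⟩, rfl⟩
        exact (conj_mem_centralizer hinj β _).2 l.2
      · rintro _ ⟨_, ⟨l, hl, rfl⟩, rfl⟩
        rw [orderOf_injective _ hinj, Subgroup.subtype_apply, Subgroup.orderOf_coe, ← Nat.coprime_two_right,
          ← Subgroup.orderOf_mk l hl]
        exact (CfsgLib.Solvable.Cores.coprime_card_pPrimeCore (G := fixPts β) 2).coprime_dvd_left
          (orderOf_dvd_natCard _)
      · rintro g hg _ ⟨l, hl, rfl⟩
        rw [conj_apply_aut]
        exact ⟨_, core_invariant 2 (realU_commute hg) hl, rfl⟩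
    rwa [Subgroup.map_eq_bot_iff_of_injective _ hinj, hP,
      Subgroup.map_eq_bot_iff_of_injective _ (fixPts β).subtype_injective] at hbot
  refine ⟨core_bot hinj β 𝒢 hinn hD fun m _ hm hfix => graph_fix hn hs hσ hθ hσθ h ha he m hm hfix, fun hcop => ?_⟩
  refine fixPts_ne_bot hinj β (by rw [← pow_two, hA]) ?_
  rw [← Subgroup.range_subtype (fixPts β), MonoidHom.range_eq_map]
  rw [top_le_iff.1 (CfsgLib.Solvable.Cores.le_pPrimeCore (p := 2) (N := (⊤ : Subgroup (fixPts β)))
    (by rw [Subgroup.card_top]; exact hcop.symm))] at hD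
  rw [hD, Subgroup.map_bot]

end CfsgLib.KnownC.AutPSU.Balance
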