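import Cfsg.Agent.Lib.Classical.HermBasic
import Cfsg.Agent.Lib.Classical.HermField

/-!
# Hermitian spaces with a conjugate-linear involution

`J` is a conjugate-linear involution with `H (J x) (J y) = ε θ(H x y)`; on its fixed vectors `H` is
symmetric (`ε = 1`) or alternating (`ε = -1`). We show that a group of isometries commuting with `J`,
in which every element has an odd power that is scalar and which is normalised by the reflections
(`ε = 1`) or transvections (`ε = -1`) in fixed vectors, consists of scalars.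
-/

set_option autoImplicit false
set_option linter.unusedSectionVars false

open Module

namespace CfsgLib.KnownC.AutPSU.Balance

open CfsgLib.Classical

variable {F : Type*} [Field F] {θ : F →+* F} {V : Type*} [AddCommGroup V] [Module F V]

/-- A conjugate-linear involution compatible with a Hermitian form. -/
structure RealForm (H : V →ₛₗ[θ] V →ₗ[F] F) (J : V → V) (ε : F) : Prop where
  herm : IsHermitian H
  nd : H.SeparatingRight
  two : (2 : F) ≠ 0
  add : ∀ x y, J (x + y) = J x + J y
  smul : ∀ (c : F) x, J (c • x) = θ c • J x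
  invol : ∀ x, J (J x) = x
  form : ∀ x y, H (J x) (J y) = ε * θ (H x y)

/-- The reflection in `u`. -/
def refl (H : V →ₛₗ[θ] V →ₗ[F] F) (u : V) : Module.End F V :=
  LinearMap.id - (2 / H u u) • (H u).smulRight u

/-- The transvection with axis `u⊥`. -/
def tv (H : V →ₛₗ[θ] V →ₗ[F] F) (u : V) (s : F) : Module.End F V :=
  LinearMap.id + s • (H u).smulRight u

theorem refl_apply (H : V →ₛₗ[θ] V →ₗ[F] F) (u x : V) : refl H u x = x - (2 / H u u * H u x) • u := by
  simp [refl, LinearMap.smulRight_apply, smul_smul]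

theorem tv_apply (H : V →ₛₗ[θ] V →ₗ[F] F) (u x : V) (s : F) : tv H u s x = x + (s * H u x) • u := by
  simp [tv, LinearMap.smulRight_apply, smul_smul]

namespace RealForm

variable {H : V →ₛₗ[θ] V →ₗ[F] F} {J : V → V} {ε : F} (h : RealForm H J ε)
include h

theorem form_real {u v : V} (hu : J u = u) (hv : J v = v) : θ (H u v) = H v u := h.herm.symm u v

theorem form_eps {u v : V} (hu : J u = u) (hv : J v = v) : H u v = ε * θ (H u v) := by
  conv_lhs => rw [← hu, ← hv]
  exact h.form u v

theorem real_comb {u v : V} (hu : J u = u) (hv : J v = v) {a b : F} (ha : θ a = a) (hb : θ b = b) :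
    J (a • u + b • v) = a • u + b • v := by rw [h.add, h.smul, h.smul, hu, hv, ha, hb]

theorem real_add_smul {u v : V} (hu : J u = u) (hv : J v = v) {b : F} (hb : θ b = b) : J (u + b • v) = u + b • v := by
  rw [h.add, h.smul, hu, hv, hb]

theorem two_fixed : θ 2 = 2 := map_ofNat θ 2

theorem neg_one_ne : (-1 : F) ≠ 1 := fun e => h.two (by linear_combination -e)

/-- Every vector is a combination of two real ones. -/
theorem real_decomp (x : V) : ∃ (y z : V) (δ : F), J y = y ∧ J z = z ∧ x = y + δ • z := by
  obtain ⟨δ, hδ0, hδ⟩ := h.herm.conj.exists_trace_zero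
  have hδ' : θ δ = -δ := by linear_combination hδ
  have hJsub : J (x - J x) = J x - x := by
    have := h.add (x - J x) (J x)
    rw [sub_add_cancel, h.invol] at this
    rw [eq_sub_iff_add_eq, ← this]
  refine ⟨(2 : F)⁻¹ • (x + J x), (2 * δ)⁻¹ • (x - J x), δ, ?_, ?_, ?_⟩
  · rw [h.smul, h.add, h.invol, map_inv₀, h.two_fixed, add_comm (J x) x]
  · rw [h.smul, hJsub, map_inv₀, map_mul, h.two_fixed, hδ', mul_neg, inv_neg, neg_smul, ← smul_neg, neg_sub]
  · rw [smul_smul, show δ * (2 * δ)⁻¹ = (2 : F)⁻¹ by field_simp, ← smul_add, add_add_sub_cancel, ← two_smul F,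
      smul_smul, inv_mul_cancel₀ h.two, one_smul]

theorem eq_zero_of_real {u : V} (hu : ∀ x, J x = x → H x u = 0) : u = 0 :=
  h.nd u fun x => by
    obtain ⟨y, z, δ, hy, hz, rfl⟩ := h.real_decomp x
    rw [map_add, map_smulₛₗ, LinearMap.add_apply, LinearMap.smul_apply, hu y hy, hu z hz, smul_zero, add_zero]

theorem exists_real_pairing {d : V} (hd0 : d ≠ 0) : ∃ x, J x = x ∧ H d x ≠ 0 := by
  by_contra hn
  push Not at hn
  exact hd0 (h.eq_zero_of_real fun x hx => by rw [← h.herm.symm, hn x hx, map_zero])

/-- Fixed vectors of a linear map. -/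
theorem scalar_of_real {g : Module.End F V} {a : F} (hg : ∀ x, J x = x → g x = a • x) (x : V) : g x = a • x := by
  obtain ⟨y, z, δ, hy, hz, rfl⟩ := h.real_decomp x
  rw [map_add, map_smul, hg y hy, hg z hz, smul_add, smul_comm]

theorem exists_two_perp [FiniteDimensional F V] (h3 : 3 ≤ finrank F V) (u v : V) :
    ∃ x, x ≠ 0 ∧ H u x = 0 ∧ H v x = 0 := by
  by_contra hn
  push Not at hn
  have hinj : Function.Injective ((H u).prod (H v)) := (injective_iff_map_eq_zero _).2 fun x hx => by
    by_contra hx0
    exact hn x hx0 (congrArg Prod.fst hx) (congrArg Prod.snd hx)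
  have := LinearMap.finrank_le_finrank_of_injective hinj
  simp at this
  omega

theorem tv_isom {u : V} (hu : H u u = 0) {s : F} (hs : s + θ s = 0) (x y : V) :
    H (tv H u s x) (tv H u s y) = H x y := by
  simp only [tv_apply, map_add, map_smul, map_smulₛₗ, LinearMap.add_apply, LinearMap.smul_apply, smul_eq_mul,
    map_mul, hu, ← h.herm.symm u x, RingHom.id_apply]
  linear_combination (H u y * θ (H u x)) * hs

theorem refl_invol {u : V} (hu : H u u ≠ 0) (x : V) : refl H u (refl H u x) = x := by
  simp only [refl_apply, map_sub, map_smul, smul_eq_mul]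
  match_scalars <;> field_simp <;> ring

theorem refl_isom {u : V} (hu : H u u ≠ 0) (x y : V) : H (refl H u x) (refl H u y) = H x y := by
  have ha := h.herm.self_fixed u
  simp only [refl_apply, map_sub, map_smul, map_smulₛₗ, LinearMap.sub_apply, LinearMap.smul_apply, smul_eq_mul,
    map_mul, map_div₀, ha, h.two_fixed, ← h.herm.symm u x, RingHom.id_apply]
  field_simp
  ring

theorem tv_comm (he : ε = -1) {u : V} (hu : J u = u) {s : F} (hs : s + θ s = 0) (x : V) :
    tv H u s (J x) = J (tv H u s x) := by
  have e : H u (J x) = ε * θ (H u x) := by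
    conv_lhs => rw [← hu]
    exact h.form u x
  rw [tv_apply, tv_apply, h.add, h.smul, hu, map_mul, e, he]
  congr 2
  linear_combination (-θ (H u x)) * hs

theorem refl_comm (he : ε = 1) {u : V} (hu : J u = u) (x : V) : refl H u (J x) = J (refl H u x) := by
  have e : H u (J x) = ε * θ (H u x) := by
    conv_lhs => rw [← hu]
    exact h.form u x
  have hsub : ∀ a b : V, J (a - b) = J a - J b := fun a b => by
    rw [eq_sub_iff_add_eq, ← h.add, sub_add_cancel]
  rw [refl_apply, refl_apply, hsub, h.smul, hu, map_mul, map_div₀, h.two_fixed, h.herm.self_fixed, e, he, one_mul]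

theorem alt (he : ε = -1) {u : V} (hu : J u = u) : H u u = 0 := by
  have h1 := h.form_eps hu hu
  rw [h.herm.self_fixed, he] at h1
  exact mul_left_cancel₀ h.two (by linear_combination h1 : 2 * H u u = 2 * 0)

theorem symm_real (he : ε = 1) {u v : V} (hu : J u = u) (hv : J v = v) : θ (H u v) = H u v ∧ H v u = H u v := by
  have h1 := h.form_eps hu hv
  rw [he, one_mul] at h1
  exact ⟨h1.symm, by rw [← h.form_real hu hv, ← h1]⟩

/-- An anisotropic real vector orthogonal to two orthogonal ones. -/
theorem exists_aniso_perp [FiniteDimensional F V] (h3 : 3 ≤ finrank F V) (he : ε = 1) {u w : V} (hu : J u = u)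
    (hw : J w = w) (ha : H u u ≠ 0) (hb : H w w ≠ 0) (huw : H u w = 0) :
    ∃ z, J z = z ∧ H z z ≠ 0 ∧ H u z = 0 ∧ H w z = 0 := by
  by_contra hn
  push Not at hn
  have hwu : H w u = 0 := by rw [(h.symm_real he hu hw).2, huw]
  let P : Module.End F V := LinearMap.id - (H u u)⁻¹ • (H u).smulRight u - (H w w)⁻¹ • (H w).smulRight w
  have hP : ∀ x, P x = x - ((H u u)⁻¹ * H u x) • u - ((H w w)⁻¹ * H w x) • w := fun x => by
    simp [P, LinearMap.smulRight_apply, smul_smul]
  have hPu : ∀ x, H u (P x) = 0 := fun x => by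
    rw [hP, map_sub, map_sub, map_smul, map_smul, huw]; simp; field_simp; ring
  have hPw : ∀ x, H w (P x) = 0 := fun x => by
    rw [hP, map_sub, map_sub, map_smul, map_smul, hwu]; simp; field_simp; ring
  have hsub : ∀ a b : V, J (a - b) = J a - J b := fun a b => by
    rw [eq_sub_iff_add_eq, ← h.add, sub_add_cancel]
  have hPJ : ∀ x, J x = x → J (P x) = P x := fun x hx => by
    rw [hP, hsub, hsub, h.smul, h.smul, hu, hw, hx, map_mul, map_mul, map_inv₀, map_inv₀, h.herm.self_fixed,
      h.herm.self_fixed, (h.symm_real he hu hx).1, (h.symm_real he hw hx).1]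
  have hiso : ∀ x, J x = x → H (P x) (P x) = 0 := fun x hx => by
    by_contra h0
    exact hn _ (hPJ x hx) h0 (hPu x) (hPw x)
  have horth : ∀ x y, J x = x → J y = y → H (P x) (P y) = 0 := fun x y hx hy => by
    have h1 := hiso (x + y) (by rw [h.add, hx, hy])
    rw [map_add, h.herm.add_self, hiso x hx, hiso y hy, (h.symm_real he (hPJ x hx) (hPJ y hy)).1] at h1
    exact mul_left_cancel₀ h.two (by linear_combination h1 : 2 * H (P x) (P y) = 2 * 0)
  have hPz : ∀ y, J y = y → P y = 0 := fun y hy => h.eq_zero_of_real fun x hx => by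
    have : x = P x + ((H u u)⁻¹ * H u x) • u + ((H w w)⁻¹ * H w x) • w := by rw [hP]; abel
    rw [this, map_add, map_add, map_smulₛₗ, map_smulₛₗ, LinearMap.add_apply, LinearMap.add_apply,
      LinearMap.smul_apply, LinearMap.smul_apply, horth x y hx hy, hPu, hPw, smul_zero, smul_zero, add_zero,
      add_zero]
  obtain ⟨x, hx0, hux, hwx⟩ := h.exists_two_perp h3 u w
  refine hx0 ?_
  have e : P x = x := by rw [hP, hux, hwx]; simp
  rw [← e]
  obtain ⟨y, z, δ, hy, hz, rfl⟩ := h.real_decomp x
  rw [map_add, map_smul, hPz y hy, hPz z hz, smul_zero, add_zero]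

theorem exists_aniso [FiniteDimensional F V] (h3 : 3 ≤ finrank F V) (he : ε = 1) : ∃ u, J u = u ∧ H u u ≠ 0 := by
  by_contra hn
  push Not at hn
  haveI : Nontrivial V := Module.finrank_pos_iff.1 (by omega : 0 < finrank F V)
  obtain ⟨x, hx⟩ := exists_ne (0 : V)
  refine hx ?_
  have hz : ∀ y, J y = y → y = 0 := fun y hy => h.eq_zero_of_real fun z hzr => by
    have h1 := hn (z + y) (by rw [h.add, hzr, hy])
    rw [h.herm.add_self, hn z hzr, hn y hy, (h.symm_real he hzr hy).1] at h1
    exact mul_left_cancel₀ h.two (by linear_combination h1 : 2 * H z y = 2 * 0)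
  obtain ⟨y, z, δ, hy, hz', rfl⟩ := h.real_decomp x
  rw [hz y hy, hz z hz', smul_zero, add_zero]

end RealForm

end CfsgLib.KnownC.AutPSU.Balance
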