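import Cfsg.Agent.Lib.KnownC.AutPSU.Balance.RealForm

/-!
# Groups of odd exponent modulo scalars normalised by real reflections or transvections
-/

set_option autoImplicit false
set_option linter.unusedSectionVars false

open Module

namespace CfsgLib.KnownC.AutPSU.Balance

open CfsgLib.Classical

variable {F : Type*} [Field F] {θ : F →+* F} {V : Type*} [AddCommGroup V] [Module F V]

/-- The hypotheses on the group. -/
structure OddGroup (H : V →ₛₗ[θ] V →ₗ[F] F) (J : V → V) (ε : F) (R : Submonoid (Module.End F V)) : Prop where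
  inv : ∀ g ∈ R, ∃ g' ∈ R, g * g' = 1
  isom : ∀ g ∈ R, ∀ x y, H (g x) (g y) = H x y
  real : ∀ g ∈ R, ∀ x, g (J x) = J (g x)
  odd : ∀ g ∈ R, ∃ k : ℕ, Odd k ∧ ∃ a : F, ∀ x, (g ^ k) x = a • x
  refl_mem : ε = 1 → ∀ u, J u = u → H u u ≠ 0 → ∀ g ∈ R, refl H u * g * refl H u ∈ R
  tv_mem : ε = -1 → ∀ u s, J u = u → s + θ s = 0 → ∀ g ∈ R, tv H u s * g * tv H u (-s) ∈ R

namespace OddGroup

variable {H : V →ₛₗ[θ] V →ₗ[F] F} {J : V → V} {ε : F} {R : Submonoid (Module.End F V)}
  (hR : OddGroup H J ε R) (h : RealForm H J ε)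
include hR h

theorem apply_inv {g : Module.End F V} (hg : g ∈ R) :
    ∃ g' ∈ R, (∀ x, g (g' x) = x) ∧ ∀ x, g' (g x) = x := by
  obtain ⟨g', hg', e⟩ := hR.inv g hg
  obtain ⟨g'', -, e'⟩ := hR.inv g' hg'
  have : g'' = g := by
    calc g'' = g * g' * g'' := by rw [e, one_mul]
      _ = g := by rw [mul_assoc, e', mul_one]
  rw [this] at e'
  exact ⟨g', hg', fun x => LinearMap.congr_fun e x, fun x => LinearMap.congr_fun e' x⟩

theorem map_real {g : Module.End F V} (hg : g ∈ R) {u : V} (hu : J u = u) : J (g u) = g u := by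
  rw [← hR.real g hg, hu]

theorem refl_pair (he : ε = 1) {g : Module.End F V} (hg : g ∈ R) {u : V} (hu : J u = u) (ha : H u u ≠ 0) :
    refl H u * refl H (g u) ∈ R := by
  obtain ⟨g', hg', e1, e2⟩ := hR.apply_inv h hg
  have : refl H u * refl H (g u) = refl H u * g * refl H u * g' := LinearMap.ext fun x => by
    simp only [Module.End.mul_apply]
    congr 1
    rw [refl_apply, refl_apply, map_sub, map_smul, e1, hR.isom g hg]
    conv_lhs => rw [← e1 x, hR.isom g hg, e1 x]
  rw [this]
  exact mul_mem (hR.refl_mem he u hu ha g hg) hg'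

theorem tv_pair (he : ε = -1) {g : Module.End F V} (hg : g ∈ R) {u : V} (hu : J u = u) {s : F}
    (hs : s + θ s = 0) : tv H u (-s) * tv H (g u) s ∈ R := by
  obtain ⟨g', hg', e1, e2⟩ := hR.apply_inv h hg
  have hs' : -s + θ (-s) = 0 := by rw [map_neg]; linear_combination -hs
  have : tv H u (-s) * tv H (g u) s = tv H u (-s) * g * tv H u (- -s) * g' := LinearMap.ext fun x => by
    simp only [Module.End.mul_apply, neg_neg]
    congr 1
    rw [tv_apply, tv_apply, map_add, map_smul, e1]
    conv_lhs => rw [← e1 x, hR.isom g hg, e1 x]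
  rw [this]
  exact mul_mem (hR.tv_mem he u (-s) hu hs' g hg) hg'

omit hR in
theorem conj_refl_refl (he : ε = 1) {z x y : V} (hz : H z z ≠ 0) (hy : H z y = 0) :
    refl H z * (refl H x * refl H y) * refl H z = refl H (refl H z x) * refl H y := by
  have key : ∀ w v, refl H z (refl H w (refl H z v)) = refl H (refl H z w) v := fun w v => by
    rw [refl_apply H w, refl_apply H (refl H z w) v, map_sub, map_smul, h.refl_invol hz, h.refl_isom hz]
    conv_rhs => rw [← h.refl_invol hz v, h.refl_isom hz, h.refl_invol hz]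
  have hy' : refl H z y = y := by rw [refl_apply, hy]; simp
  refine LinearMap.ext fun v => ?_
  simp only [Module.End.mul_apply]
  conv_lhs => rw [show refl H y (refl H z v) = refl H z (refl H z (refl H y (refl H z v))) from
    (h.refl_invol hz _).symm, key y v, hy']
  exact key x _

theorem pair_false [FiniteDimensional F V] (h3 : 3 ≤ finrank F V) (he : ε = 1) {u v : V} (hu : J u = u)
    (hv : J v = v) (ha : H u u ≠ 0) (hb : H u v = 0) : refl H u * refl H v ∉ R := by
  intro hρR
  have hvu : H v u = 0 := by rw [(h.symm_real he hu hv).2, hb]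
  set ρ := refl H u * refl H v with hρ
  have hρu : ρ u = -u := by
    rw [hρ, Module.End.mul_apply, refl_apply H v, hvu, mul_zero, zero_smul, sub_zero, refl_apply,
      div_mul_cancel₀ _ ha, two_smul]
    abel
  obtain ⟨z, hz0, hzu, hzv⟩ := h.exists_two_perp h3 u v
  have hρz : ρ z = z := by
    rw [hρ, Module.End.mul_apply, refl_apply H v, hzv, mul_zero, zero_smul, sub_zero, refl_apply, hzu,
      mul_zero, zero_smul, sub_zero]
  obtain ⟨k, hk, a, hka⟩ := hR.odd ρ hρR
  have h1 : ∀ j : ℕ, (ρ ^ j) u = ((-1 : F) ^ j) • u ∧ (ρ ^ j) z = z := fun j => by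
    induction j with
    | zero => simp
    | succ j ih =>
      constructor
      · rw [pow_succ', Module.End.mul_apply, ih.1, map_smul, hρu, smul_neg, ← neg_smul]
        congr 1; ring
      · rw [pow_succ', Module.End.mul_apply, ih.2, hρz]
  have e1 : a • u = (-1 : F) • u := by rw [← hka, (h1 k).1, hk.neg_one_pow]
  have e2 : a • z = (1 : F) • z := by rw [← hka, (h1 k).2, one_smul]
  have hu0 : u ≠ 0 := fun e => ha (by rw [e]; simp)
  exact h.neg_one_ne ((smul_left_injective F hu0 e1).symm.trans (smul_left_injective F hz0 e2))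

theorem orth_false [FiniteDimensional F V] (h3 : 3 ≤ finrank F V) (he : ε = 1) {g : Module.End F V} (hg : g ∈ R)
    {u : V} (hu : J u = u) (ha : H u u ≠ 0) : H u (g u) ≠ 0 := fun hb =>
  hR.pair_false h h3 he hu (hR.map_real h hg hu) ha hb (hR.refl_pair h he hg hu ha)

theorem rot_false [Fintype F] [FiniteDimensional F V] (h3 : 3 ≤ finrank F V) (he : ε = 1) {g : Module.End F V}
    (hg : g ∈ R) {u : V} (hu : J u = u) (ha : H u u ≠ 0) : H u (g u) ^ 2 = H u u ^ 2 := by
  by_contra hne
  have hv := hR.map_real h hg hu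
  set v := g u with hvdef
  set a := H u u with hadef
  have hva : H v v = a := hR.isom g hg u u
  set c := H u v / a with hcdef
  have haθ : θ a = a := h.herm.self_fixed u
  have hbθ : θ (H u v) = H u v := (h.symm_real he hu hv).1
  have hcθ : θ c = c := by rw [hcdef, map_div₀, hbθ, haθ]
  have hbc : H u v = c * a := by rw [hcdef, div_mul_cancel₀ _ ha]
  set w := v - c • u with hwdef
  have hJw : J w = w := by
    rw [hwdef, show v - c • u = v + (-c) • u by rw [neg_smul, sub_eq_add_neg],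
      h.real_add_smul hv hu (by rw [map_neg, hcθ])]
  have huw : H u w = 0 := by rw [hwdef, map_sub, map_smul, smul_eq_mul, hbc, ← hadef, sub_self]
  have hwu : H w u = 0 := by rw [(h.symm_real he hu hJw).2, huw]
  have hww : H w w = a * (1 - c ^ 2) := by
    rw [hwdef]
    simp only [map_sub, map_smul, map_smulₛₗ, LinearMap.sub_apply, LinearMap.smul_apply, smul_eq_mul, hcθ,
      (h.symm_real he hu hv).2, hbc, hva, ← hadef]
    ring
  have hc0 : c ≠ 0 := fun e => hR.orth_false h h3 he hg hu ha (by rw [← hvdef, hbc, e, zero_mul])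
  have hc1 : 1 - c ^ 2 ≠ 0 := fun e => hne (by rw [hbc]; linear_combination (-a ^ 2) * e)
  have hwa : H w w ≠ 0 := by rw [hww]; exact mul_ne_zero ha hc1
  have hve : v = c • u + w := by rw [hwdef]; abel
  set ρ := refl H u * refl H v with hρ
  have hρR : ρ ∈ R := hR.refl_pair h he hg hu ha
  set C := 2 * c ^ 2 - 1 with hC
  have hvu : H v u = c * a := by rw [(h.symm_real he hu hv).2, hbc]
  have hρu : ρ u = C • u + (-2 * c) • w := by
    simp only [hρ, Module.End.mul_apply, refl_apply, map_sub, map_smul, smul_eq_mul, hva, hbc, hvu, ← hadef]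
    rw [hve, hC]
    match_scalars <;> field_simp <;> ring
  have hvw : H v w = a * (1 - c ^ 2) := by
    rw [hve, map_add, LinearMap.add_apply, map_smulₛₗ, LinearMap.smul_apply, huw, hww, smul_zero, zero_add]
  have hρw : ρ w = (2 * c * (1 - c ^ 2)) • u + C • w := by
    simp only [hρ, Module.End.mul_apply, refl_apply, map_sub, map_smul, smul_eq_mul, hva, hbc, hvw, huw,
      ← hadef]
    rw [hve, hC]
    match_scalars <;> field_simp <;> ring
  -- the rotation angle is the same at every vector of the plane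
  have hang : ∀ p s : F, θ p = p → θ s = s →
      H (p • u + s • w) (ρ (p • u + s • w)) = C * H (p • u + s • w) (p • u + s • w) := fun p s hp hs => by
    simp only [map_add, map_smul, hρu, hρw, map_smulₛₗ, LinearMap.add_apply, LinearMap.smul_apply, smul_eq_mul,
      hp, hs, huw, hwu, hww, ← hadef]
    ring
  have hCθ : θ C = C := by rw [hC, map_sub, map_mul, map_pow, hcθ, h.two_fixed, map_one]
  obtain ⟨e, hJe, hee, hue, hwe⟩ := h.exists_aniso_perp h3 he hu hJw ha hwa huw
  have hC0 : C ≠ 0 := fun e0 => hR.orth_false h h3 he hρR hu ha (by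
    have := hang 1 0 (map_one θ) (map_zero θ)
    rw [one_smul, zero_smul, add_zero, e0, zero_mul] at this
    exact this)
  have hC1 : 1 - C ^ 2 ≠ 0 := fun e0 => by
    have h4 : (4 * c ^ 2) * (1 - c ^ 2) = 0 := by rw [hC] at e0; linear_combination e0
    rcases mul_eq_zero.1 h4 with h5 | h5
    · rcases mul_eq_zero.1 h5 with h6 | h6
      · exact h.two (pow_eq_zero_iff two_ne_zero |>.1 (show (2 : F) ^ 2 = 0 by linear_combination h6))
      · exact hc0 (pow_eq_zero_iff two_ne_zero |>.1 h6)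
    · exact hc1 h5
  obtain ⟨p, s, hp, hs, hQ, τ, hτθ, hτ⟩ : ∃ p s : F, θ p = p ∧ θ s = s ∧ H (p • u + s • w) (p • u + s • w) ≠ 0 ∧
      ∃ τ : F, θ τ = τ ∧
        τ ^ 2 * H e e = H (p • u + s • w) (p • u + s • w) * (1 - C ^ 2) * (1 - 2 * C ^ 2) := by
    by_cases h2C : 1 - 2 * C ^ 2 = 0
    · refine ⟨1, 0, map_one θ, map_zero θ, ?_, 0, map_zero θ, by rw [h2C]; ring⟩
      rwa [one_smul, zero_smul, add_zero]
    set K0 := (1 - C ^ 2) * (1 - 2 * C ^ 2) * H e e with hK0
    have hK0θ : θ K0 = K0 := by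
      simp [hK0, hCθ, h.herm.self_fixed, h.two_fixed]
    classical
    let K := RingHom.eqLocusField θ (RingHom.id F)
    let aK : K := ⟨a, haθ⟩
    let bK : K := ⟨H w w, h.herm.self_fixed w⟩
    let kK : K := ⟨K0, hK0θ⟩
    have hodd : Fintype.card K % 2 = 1 := by
      refine FiniteField.odd_card_of_char_ne_two fun h2 => ?_
      have : CharP K 2 := ringChar.of_eq h2
      exact h.two (congrArg K.subtype (CharP.cast_eq_zero K 2 : ((2 : ℕ) : K) = 0))
    have haK : aK ≠ 0 := fun e0 => ha (congrArg K.subtype e0)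
    have hbK : bK ≠ 0 := fun e0 => hwa (congrArg K.subtype e0)
    obtain ⟨p, s, hps⟩ := FiniteField.exists_root_sum_quadratic
      (f := Polynomial.C aK * Polynomial.X ^ 2) (g := Polynomial.C bK * Polynomial.X ^ 2 - Polynomial.C kK)
      (by rw [Polynomial.degree_C_mul_X_pow 2 haK]; rfl)
      (by rw [Polynomial.degree_sub_C (by rw [Polynomial.degree_C_mul_X_pow 2 hbK]; decide),
        Polynomial.degree_C_mul_X_pow 2 hbK]; rfl) hodd
    have hval := congrArg K.subtype hps
    simp [aK, bK, kK] at hval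
    have hval' : H (p.1 • u + s.1 • w) (p.1 • u + s.1 • w) = K0 := by
      have hp' : θ p.1 = p.1 := p.2
      have hs' : θ s.1 = s.1 := s.2
      simp only [map_add, map_smul, map_smulₛₗ, LinearMap.add_apply, LinearMap.smul_apply, smul_eq_mul, hp', hs',
        huw, hwu, ← hadef]
      linear_combination hval
    refine ⟨p.1, s.1, p.2, s.2, ?_, (1 - C ^ 2) * (1 - 2 * C ^ 2), by simp [hCθ, h.two_fixed], ?_⟩
    · rw [hval']
      exact mul_ne_zero (mul_ne_zero hC1 h2C) hee
    · rw [hval', hK0]; ring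
  set u₁ := p • u + s • w with hu₁def
  have hJu₁ : J u₁ = u₁ := h.real_comb hu hJw hp hs
  set v₁ := ρ u₁ with hv₁def
  have hJv₁ : J v₁ = v₁ := hR.map_real h hρR hJu₁
  set a₁ := H u₁ u₁ with ha₁def
  have hb₁ : H u₁ v₁ = C * a₁ := hang p s hp hs
  have hv₁a : H v₁ v₁ = a₁ := hR.isom ρ hρR u₁ u₁
  have hu₁e : H u₁ e = 0 := by simp [hu₁def, hue, hwe, map_add, map_smulₛₗ]
  have hv₁e : H v₁ e = 0 := by
    simp [hv₁def, hu₁def, hρu, hρw, hue, hwe, map_add, map_smulₛₗ]
  have hv₁u : H v₁ u₁ = C * a₁ := by rw [(h.symm_real he hJu₁ hJv₁).2, hb₁]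
  have heu₁ : H e u₁ = 0 := by rw [(h.symm_real he hJu₁ hJe).2, hu₁e]
  have hev₁ : H e v₁ = 0 := by rw [(h.symm_real he hJv₁ hJe).2, hv₁e]
  set z := u₁ + (-C) • v₁ + τ • e with hzdef
  have hJz : J z = z := by
    rw [hzdef]
    exact h.real_add_smul (h.real_add_smul hJu₁ hJv₁ (by rw [map_neg, hCθ])) hJe hτθ
  have hzu : H z u₁ = a₁ * (1 - C ^ 2) := by
    simp [hzdef, map_add, map_smulₛₗ, hv₁u, heu₁, hCθ, hτθ, ← ha₁def]
    ring
  have hzv : H z v₁ = 0 := by
    simp [hzdef, map_add, map_smulₛₗ, hb₁, hv₁a, hev₁, hCθ, hτθ]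
  have hzz : H z z = 2 * a₁ * (1 - C ^ 2) ^ 2 := by
    simp [hzdef, map_add, map_smulₛₗ, hb₁, hv₁a, hv₁u, hu₁e, hv₁e, heu₁, hev₁, hCθ, hτθ, ← ha₁def]
    linear_combination hτ
  have hz0 : H z z ≠ 0 := by
    rw [hzz]; exact mul_ne_zero (mul_ne_zero h.two hQ) (pow_ne_zero _ hC1)
  have hσ1 : refl H u₁ * refl H v₁ ∈ R := hR.refl_pair h he hρR hJu₁ hQ
  have hσ2 : refl H (refl H z u₁) * refl H v₁ ∈ R := by
    rw [← conj_refl_refl h he hz0 hzv]
    exact hR.refl_mem he z hJz hz0 _ hσ1
  obtain ⟨σ', hσ', e1, e2⟩ := hR.apply_inv h hσ2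
  set u₂ := refl H z u₁ with hu₂def
  have hu₂ : H u₁ u₂ = 0 := by
    rw [hu₂def, refl_apply, map_sub, map_smul, smul_eq_mul, hzz, hzu, (h.symm_real he hJz hJu₁).2, hzu,
      ← ha₁def]
    have h2 := h.two
    field_simp
    ring
  -- the product of two orthogonal reflections lies in the group
  have hinv : refl H u₁ * refl H u₂ ∈ R := by
    have : refl H u₁ * refl H u₂ = refl H u₁ * refl H v₁ * σ' := LinearMap.ext fun x => by
      simp only [Module.End.mul_apply]
      conv_lhs => rw [← e1 x]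
      simp only [Module.End.mul_apply]
      rw [h.refl_invol (by rw [hu₂def, h.refl_isom hz0]; exact hQ)]
    rw [this]
    exact mul_mem hσ1 hσ'
  exact hR.pair_false h h3 he hJu₁ (by rw [hu₂def, ← h.refl_comm he hJz, hJu₁]) hQ hu₂ hinv

end OddGroup

end CfsgLib.KnownC.AutPSU.Balance
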